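import Cfsg.Agent.TICount.Points
import Cfsg.Agent.InvolCalc.Dihedral

/-!
Normalisers that are dihedral, and abelian groups without fixed vectors.
-/

set_option autoImplicit false
set_option linter.unusedSectionVars false

namespace Cfsg.Lib.TICount

open Subgroup

universe u v

variable {G : Type u} [Group G] [Finite G]

namespace Hyp

variable {M : Subgroup G} {z : G} (hH : Hyp M z)
include hH

theorem dihedral (hcz : ∀ c ∈ cz M z, c = 1 ∨ c = z) (hcyc : IsCyclic M) :
    Nonempty (normalizer (M : Set G) ≃* DihedralGroup (Nat.card M)) := by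
  obtain ⟨x, hx⟩ := hcyc.exists_generator
  have hord : orderOf (z * (z * (x : G))) = Nat.card M := by
    rw [← mul_assoc, mul_self_of_two hH.two, one_mul, Subgroup.orderOf_coe, orderOf_eq_card_of_forall_mem_zpowers hx]
  have hne : z ≠ z * (x : G) := by
    intro h
    have h1 : (x : G) = 1 := mul_left_cancel (h.symm.trans (mul_one z).symm)
    have h2 : orderOf x = 1 := orderOf_eq_one_iff.2 (Subtype.ext h1)
    rw [orderOf_eq_card_of_forall_mem_zpowers hx] at h2
    have := hH.three_le
    omega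
  obtain ⟨e⟩ := Cfsg.Lib.InvolCalc.exists_dihedral_equiv hH.two (hH.z_mul x.2) hne
  rw [hord] at e
  have heq : normalizer (M : Set G) = closure ({z, z * (x : G)} : Set G) := by
    refine le_antisymm (fun g hg => ?_) ((closure_le _).2 ?_)
    · have hzmem : z ∈ closure ({z, z * (x : G)} : Set G) := subset_closure (Or.inl rfl)
      have hxmem : (x : G) ∈ closure ({z, z * (x : G)} : Set G) := by
        have := mul_mem hzmem (subset_closure (Or.inr rfl) : z * (x : G) ∈ closure ({z, z * (x : G)} : Set G))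
        rwa [← mul_assoc, mul_self_of_two hH.two, one_mul] at this
      obtain ⟨a, ha, c, hc, rfl⟩ := hH.exists_decomp hg
      obtain ⟨k, hk⟩ := mem_zpowers_iff.1 (hx ⟨a, ha⟩)
      refine mul_mem ?_ ?_
      · rw [show a = (x : G) ^ k from (congrArg Subtype.val hk).symm]
        exact zpow_mem hxmem k
      · rcases hcz c hc with rfl | rfl
        · exact one_mem _
        · exact hzmem
    · rintro y (rfl | rfl)
      · exact hH.znorm
      · exact mul_mem hH.znorm (le_normalizer x.2)
  exact ⟨(MulEquiv.subgroupCongr heq).trans e⟩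

end Hyp

/-- A finite abelian group acting without fixed vectors on a nontrivial finite abelian group is cyclic. -/
theorem isCyclic_of_no_fixed {A : Type u} [CommGroup A] [Finite A] {E : Type v} [AddCommGroup E] [Finite E]
    [Nontrivial E] [DistribMulAction A E] (h : ∀ a : A, ∀ v : E, a • v = v → a = 1 ∨ v = 0) : IsCyclic A := by
  classical
  let T : Set (AddSubgroup E) := {W | W ≠ ⊥ ∧ ∀ a : A, ∀ w ∈ W, a • w ∈ W}
  obtain ⟨W, hWmin⟩ := (Set.toFinite T).exists_minimal ⟨⊤, top_ne_bot, fun a w _ => AddSubgroup.mem_top _⟩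
  obtain ⟨hW0, hWinv⟩ := hWmin.prop
  let f : A →* AddMonoid.End W :=
    { toFun := fun a => AddMonoidHom.mk' (fun w => (⟨a • w.1, hWinv a w.1 w.2⟩ : W))
        (fun x y => Subtype.ext (smul_add a x.1 y.1))
      map_one' := by ext w; exact one_smul A w.1
      map_mul' := fun a b => by ext w; exact mul_smul a b w.1 }
  let Z : Subring (AddMonoid.End W) := Subring.centralizer (Set.range f)
  let R : Subring (AddMonoid.End W) := Subring.closure (Set.range f)
  have hRZ : ∀ r ∈ R, ∀ a : A, r * f a = f a * r := by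
    intro r hr a
    have hle : R ≤ Z := Subring.closure_le.2 (by
      rintro _ ⟨b, rfl⟩
      rw [SetLike.mem_coe, Subring.mem_centralizer_iff]
      rintro _ ⟨c, rfl⟩
      rw [← map_mul, ← map_mul, mul_comm])
    exact ((Subring.mem_centralizer_iff.1 (hle hr)) (f a) ⟨a, rfl⟩).symm
  letI : CommRing R := Subring.closureCommRingOfComm (by
    rintro _ ⟨a, rfl⟩ _ ⟨b, rfl⟩
    rw [← map_mul, ← map_mul, mul_comm])
  haveI : Nontrivial W := (AddSubgroup.nontrivial_iff_ne_bot W).2 hW0
  haveI : Nontrivial R := ⟨⟨0, 1, fun e => by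
    obtain ⟨w, hw⟩ := exists_ne (0 : W)
    exact hw (DFunLike.congr_fun (congrArg Subtype.val e) w).symm⟩⟩
  haveI : NoZeroDivisors R := ⟨fun {r r'} hrr => by
    refine or_iff_not_imp_left.2 fun hr0 => ?_
    have hinj : ∀ w : W, (r : AddMonoid.End W) w = 0 → w = 0 := by
      intro w hw
      let K : AddSubgroup E :=
        { carrier := {x | ∃ hx : x ∈ W, (r : AddMonoid.End W) ⟨x, hx⟩ = 0}
          zero_mem' := ⟨W.zero_mem, map_zero _⟩
          add_mem' := fun {x y} ⟨hx, hx'⟩ ⟨hy, hy'⟩ => ⟨W.add_mem hx hy, by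
            rw [show (⟨x + y, W.add_mem hx hy⟩ : W) = ⟨x, hx⟩ + ⟨y, hy⟩ from rfl, map_add, hx', hy', add_zero]⟩
          neg_mem' := fun {x} ⟨hx, hx'⟩ => ⟨W.neg_mem hx, by
            rw [show (⟨-x, W.neg_mem hx⟩ : W) = -⟨x, hx⟩ from rfl, map_neg, hx', neg_zero]⟩ }
      by_contra hw0
      have hK0 : K ≠ ⊥ := fun e => hw0 (Subtype.ext (AddSubgroup.mem_bot.1 (e ▸ (⟨w.2, hw⟩ : (w : E) ∈ K))))
      have hKinv : ∀ a : A, ∀ x ∈ K, a • x ∈ K := by
        rintro a x ⟨hx, hx'⟩
        refine ⟨hWinv a x hx, ?_⟩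
        have e := DFunLike.congr_fun (hRZ r r.2 a) ⟨x, hx⟩
        change (r : AddMonoid.End W) (f a ⟨x, hx⟩) = f a ((r : AddMonoid.End W) ⟨x, hx⟩) at e
        rw [hx', map_zero] at e
        exact e
      have hWK := hWmin.le_of_le ⟨hK0, hKinv⟩ (fun x hx => hx.1)
      refine hr0 (Subtype.ext (AddMonoidHom.ext fun y => ?_))
      obtain ⟨hy, hy'⟩ := hWK y.2
      exact hy'
    refine Subtype.ext (AddMonoidHom.ext fun y => hinj _ ?_)
    exact DFunLike.congr_fun (congrArg Subtype.val hrr) y⟩
  haveI : IsDomain R := NoZeroDivisors.to_isDomain R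
  let g : A →* R :=
    { toFun := fun a => ⟨f a, Subring.subset_closure ⟨a, rfl⟩⟩
      map_one' := Subtype.ext (map_one f)
      map_mul' := fun a b => Subtype.ext (map_mul f a b) }
  refine isCyclic_of_subgroup_isDomain g fun a b hab => ?_
  obtain ⟨w, hw, hw0⟩ := W.bot_or_exists_ne_zero.resolve_left hW0
  have e1 : f a = f b := congrArg Subtype.val hab
  have e : a • w = b • w := congrArg Subtype.val (DFunLike.congr_fun e1 ⟨w, hw⟩ :)
  rcases h (b⁻¹ * a) w (by rw [mul_smul, e, inv_smul_smul]) with e' | e'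
  · exact (inv_mul_eq_one.1 e').symm
  · exact absurd e' hw0

end Cfsg.Lib.TICount
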