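import Cfsg.Agent.TICount.ManyFixed
import Cfsg.Agent.RankOne.SharpThree

/-!
The case in which every involution has fixed points: the groups `L₂(2^e)`.
-/

set_option autoImplicit false
set_option linter.unusedSectionVars false

namespace Cfsg.Lib.TICount

open Subgroup MulAction

universe u v

variable {G : Type u} [Group G] [Finite G] {Ω : Type v} [MulAction G Ω] [IsPretransitive G Ω] [Finite Ω]
  {M : Subgroup G} {z : G} {α : Ω}

theorem sl_two_fixed {F : Type*} [Field F] (h2 : ringChar F = 2) (s : Matrix.SpecialLinearGroup (Fin 2) F)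
    {v : Fin 2 → F} (hv : v ≠ 0) (hfix : (s : Matrix (Fin 2) (Fin 2) F).mulVec v = v) : s * s = 1 := by
  haveI : CharP F 2 := h2 ▸ ringChar.charP F
  have hdet : ((s : Matrix (Fin 2) (Fin 2) F) - 1).det = 0 :=
    Matrix.exists_mulVec_eq_zero_iff.1 ⟨v, hv, by rw [Matrix.sub_mulVec, Matrix.one_mulVec, hfix, sub_self]⟩
  have hs := s.2
  rw [Matrix.det_fin_two] at hdet hs
  simp at hdet hs
  have htwo : (2 : F) = 0 := CharTwo.two_eq_zero
  set a := (s : Matrix (Fin 2) (Fin 2) F) 0 0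
  set b := (s : Matrix (Fin 2) (Fin 2) F) 0 1
  set c := (s : Matrix (Fin 2) (Fin 2) F) 1 0
  set d := (s : Matrix (Fin 2) (Fin 2) F) 1 1
  have htr : a + d = 0 := by linear_combination hs - hdet + htwo
  apply Matrix.SpecialLinearGroup.ext
  intro i k
  rw [Matrix.SpecialLinearGroup.coe_mul, Matrix.mul_apply, Fin.sum_univ_two]
  fin_cases i <;> fin_cases k <;> simp
  · show a * a + b * c = 1
    linear_combination a * htr - hs + (-1 : F) * htwo + 0 * htwo
  · show a * b + b * d = 0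
    linear_combination b * htr
  · show c * a + d * c = 0
    linear_combination c * htr
  · show c * b + d * d = 1
    linear_combination d * htr - hs - htwo

theorem linear_case (hC : Cfg M z α) (hcz : ∀ c ∈ cz M z, c = 1 ∨ c = z) {d : ℕ} (hd : 1 ≤ d)
    (hfd : nfix Ω z = 2 ^ d) (hm : Nat.card M = 2 * nfix Ω z + 1)
    (hn : Nat.card Ω = nfix Ω z * (2 * nfix Ω z - 1))
    (hall : ∀ g : G, g ≠ 1 → g * z = z * g → ∃ a : Ω, g • a = a) :
    ∃ (F : Type) (_ : Field F) (_ : Fintype F) (e : ℕ), 1 < e ∧ Fintype.card F = 2 ^ e ∧ IsCyclic ↥M ∧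
      Nat.card M = 2 ^ e + 1 ∧ Nonempty (G ≃* Matrix.ProjectiveSpecialLinearGroup (Fin 2) F) := by
  classical
  set f := nfix Ω z with hf
  set E := centralizer ({z} : Set G) with hE
  have hmem : ∀ {g : G}, g ∈ E ↔ g * z = z * g := mem_centralizer_singleton_iff
  have hEq : Nat.card E = 2 * f := hC.cent_card hcz hC.zi_z
  have hEzi : ∀ w ∈ E, w ≠ 1 → ZI Ω w := fun w hw hw1 =>
    ⟨two_of_mul_self (hC.cent_invol hcz (hmem.1 hw)) hw1, hall w hw1 (hmem.1 hw)⟩
  have hEcomm : ∀ {a b : G}, a ∈ E → b ∈ E → a * b = b * a := fun ha hb =>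
    hC.cent_comm hcz hC.zi_z (hmem.1 ha) (hmem.1 hb)
  have hcentE : ∀ w ∈ E, w ≠ 1 → ∀ g : G, g * w = w * g → g ∈ E := fun w hw hw1 g hg =>
    hmem.2 (hC.cent_comm hcz (hEzi w hw hw1) hg ((hmem.1 hw).symm))
  set L := normalizer (E : Set G) with hL
  have hLmem : ∀ {g w : G}, w ∈ E → w ≠ 1 → g * w * g⁻¹ ∈ E → g ∈ L := by
    intro g w hw hw1 hgw
    have hgw1 : g * w * g⁻¹ ≠ 1 := fun e => hw1 (conj_eq_one_iff.1 e)
    rw [hL, mem_normalizer_iff]
    intro y
    refine ⟨fun hy => hcentE _ hgw hgw1 _ ?_, fun hy => hcentE w hw hw1 y ?_⟩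
    · rw [show g * y * g⁻¹ * (g * w * g⁻¹) = g * (y * w) * g⁻¹ by group, hEcomm hy hw]; group
    · have h := hEcomm hy hgw
      rw [show g * y * g⁻¹ * (g * w * g⁻¹) = g * (y * w) * g⁻¹ by group,
        show g * w * g⁻¹ * (g * y * g⁻¹) = g * (w * y) * g⁻¹ by group] at h
      exact mul_left_cancel (mul_right_cancel h)
  -- transitivity of the normaliser on involutions of `E`
  have hL1 : ∀ w : {w : E // w ≠ 1}, ∃ g : G, g * z * g⁻¹ = ((w : E) : G) := fun w =>
    hC.zi_exists_conj (hEzi _ w.1.2 fun e => w.2 (Subtype.ext e))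
  choose r hr using hL1
  have hzE : z ∈ E := hmem.2 rfl
  have hz1 : z ≠ 1 := fun e => by simpa [e] using hC.two
  have hrL : ∀ w, r w ∈ L := fun w => hLmem hzE hz1 (by rw [hr]; exact w.1.2)
  have hEL : E ≤ L := le_normalizer
  have hLcard : Nat.card L = (2 * f - 1) * (2 * f) := by
    have h1 : Nat.card {w : E // w ≠ 1} = 2 * f - 1 := by
      haveI := Fintype.ofFinite E
      rw [Nat.card_eq_fintype_card, Fintype.card_subtype_compl, Fintype.card_subtype_eq, ← Nat.card_eq_fintype_card, hEq]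
    rw [← h1, ← hEq, ← Nat.card_prod]
    refine (Nat.card_eq_of_bijective (fun p : {w : E // w ≠ 1} × E => (⟨r p.1 * p.2, mul_mem (hrL _) (hEL p.2.2)⟩ : L))
      ⟨?_, ?_⟩).symm
    · rintro ⟨w, e⟩ ⟨w', e'⟩ h
      have h' : r w * e = r w' * e' := congrArg (fun t : L => (t : G)) h
      have hw : w = w' := by
        refine Subtype.ext (Subtype.ext ?_)
        have hfe : ∀ (t : E) (u : G), u * t * z * (u * (t : G))⁻¹ = u * z * u⁻¹ := fun t u => by
          rw [mul_assoc u (t : G) z, hmem.1 t.2]; group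
        rw [← hr w, ← hr w', ← hfe e (r w), ← hfe e' (r w'), h']
      subst hw
      exact Prod.ext rfl (Subtype.ext (mul_left_cancel h'))
    · rintro ⟨g, hg⟩
      have hw : g * z * g⁻¹ ∈ E := (mem_normalizer_iff.1 hg z).1 hzE
      have hw1 : (⟨_, hw⟩ : E) ≠ 1 := fun e => hz1 (conj_eq_one_iff.1 (congrArg Subtype.val e))
      refine ⟨⟨⟨⟨_, hw⟩, hw1⟩, ⟨(r ⟨⟨_, hw⟩, hw1⟩)⁻¹ * g, hmem.2 ?_⟩⟩, Subtype.ext (mul_inv_cancel_left _ _)⟩
      have h2 := hr ⟨⟨_, hw⟩, hw1⟩
      have h3 : ((⟨⟨g * z * g⁻¹, hw⟩, hw1⟩ : {w : E // w ≠ 1}).1 : G) = g * z * g⁻¹ := rfl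
      rw [h3] at h2
      generalize r ⟨⟨_, hw⟩, hw1⟩ = t at h2 ⊢
      calc t⁻¹ * g * z = t⁻¹ * (g * z * g⁻¹) * g := by group
        _ = t⁻¹ * (t * z * t⁻¹) * g := by rw [h2]
        _ = z * (t⁻¹ * g) := by group
  have hGcard : Nat.card G = (2 * f + 1) * ((2 * f - 1) * (2 * f)) := by
    haveI := Fintype.ofFinite Ω
    have h2 : Nat.card (cz M z) = 2 := by
      rw [Nat.card_eq_two_iff]
      refine ⟨1, ⟨z, hC.z_mem_cz⟩, fun e => hz1 (congrArg Subtype.val e).symm, Set.eq_univ_of_forall fun c => ?_⟩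
      rcases hcz c c.2 with h | h
      · exact Or.inl (Subtype.ext h)
      · exact Or.inr (Subtype.ext h)
    rw [← (stabilizer G α).index_mul_card, index_stabilizer_of_transitive, hn,
      hC.stab, hC.card_normalizer, h2, hm]
    ring
  have hidx : L.index = 2 * f + 1 := by
    have h := L.index_mul_card
    rw [hLcard, hGcard] at h
    refine Nat.eq_of_mul_eq_mul_right ?_ h
    have : 2 ≤ f := by rw [hfd]; exact Nat.le_self_pow (by omega) 2
    exact Nat.mul_pos (by omega) (by omega)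
  -- the action on the conjugates of `E`
  set Φ := G ⧸ L
  set φ₀ : Φ := QuotientGroup.mk 1 with hφ₀
  haveI := Fintype.ofFinite Φ
  have hΦ : Fintype.card Φ = 2 * f + 1 := by rw [← Nat.card_eq_fintype_card, ← hidx]; rfl
  have hstab : ∀ g : G, g • φ₀ = φ₀ ↔ g ∈ L := fun g => by
    rw [hφ₀]
    show (QuotientGroup.mk (g * 1) : G ⧸ L) = QuotientGroup.mk 1 ↔ _
    rw [mul_one, QuotientGroup.eq, mul_one, inv_mem_iff]
  have hLE : ∀ {t : G}, t ∈ L → orderOf t = 2 → t ∈ E := by
    intro t ht ht2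
    have hconj : ∀ {e : G}, e ∈ E → t * e * t⁻¹ ∈ E := fun he => (mem_normalizer_iff.1 ht _).1 he
    by_cases hex : ∃ w ∈ E, w ≠ 1 ∧ t * w = w * t
    · obtain ⟨w, hw, hw1, hwt⟩ := hex
      exact hcentE w hw hw1 t hwt
    exfalso
    push Not at hex
    let ψ : E → E := fun e => ⟨(e : G) * (t * e * t⁻¹), mul_mem e.2 (hconj e.2)⟩
    have hψ : Function.Injective ψ := by
      intro a b h
      have h' : (a : G) * (t * a * t⁻¹) = b * (t * b * t⁻¹) := congrArg (fun x : E => (x : G)) h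
      by_contra hne
      have hab : (a : G) * b ∈ E := mul_mem a.2 b.2
      refine hex _ hab (fun e => hne (Subtype.ext ?_)) ?_
      · rw [mul_eq_one_iff_eq_inv.1 e, inv_eq_of_mul_eq_one_right (hC.cent_invol hcz (hmem.1 b.2))]
      · rw [← mul_inv_eq_iff_eq_mul]
        have ha2 := hC.cent_invol hcz (hmem.1 a.2)
        have hb2 := hC.cent_invol hcz (hmem.1 b.2)
        calc t * ((a : G) * b) * t⁻¹ = ((a : G) * a) * (t * a * t⁻¹) * (t * b * t⁻¹) := by rw [ha2]; group
          _ = (a : G) * ((a : G) * (t * a * t⁻¹)) * (t * b * t⁻¹) := by group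
          _ = (a : G) * ((b : G) * (t * b * t⁻¹)) * (t * b * t⁻¹) := by rw [h']
          _ = (a : G) * b * (t * ((b : G) * b) * t⁻¹) := by group
          _ = (a : G) * b := by rw [hb2]; group
    obtain ⟨e, he⟩ := (Finite.injective_iff_surjective.1 hψ) ⟨z, hzE⟩
    have he' : (e : G) * (t * e * t⁻¹) = z := congrArg (fun x : E => (x : G)) he
    refine hex z hzE hz1 ?_
    rw [← mul_inv_eq_iff_eq_mul, ← he']
    rw [show t * ((e : G) * (t * e * t⁻¹)) * t⁻¹ = (t * e * t⁻¹) * ((t * t) * e * (t * t)⁻¹) by group,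
      mul_self_of_two ht2]
    simp only [one_mul, inv_one, mul_one]
    exact (hEcomm e.2 (hconj e.2)).symm
  have hEfix : ∀ e ∈ E, e ≠ 1 → ∀ φ : Φ, e • φ = φ → φ = φ₀ := by
    intro e he he1 φ hφ
    obtain ⟨g, rfl⟩ := QuotientGroup.mk_surjective φ
    have h1 : g⁻¹ * e * g ∈ L := by
      have h := QuotientGroup.eq.1 (show (QuotientGroup.mk (e * g) : G ⧸ L) = QuotientGroup.mk g from hφ)
      have h' := L.inv_mem h
      rwa [mul_inv_rev, inv_inv, ← mul_assoc] at h'
    have h1E : g⁻¹ * e * g ∈ E := hLE h1 (by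
      have h2 := two_conj g⁻¹ (hEzi e he he1).1
      rwa [inv_inv] at h2)
    have hg : g⁻¹ ∈ L := hLmem he he1 (by rwa [inv_inv])
    rw [hφ₀, QuotientGroup.eq, mul_one]
    exact hg
  have hEtr : ∀ φ ψ : Φ, φ ≠ φ₀ → ψ ≠ φ₀ → ∃ e ∈ E, e • φ = ψ := by
    intro φ ψ hφ hψ
    have hne : ∀ e : E, (e : G) • φ ≠ φ₀ := fun e h => hφ (smul_left_cancel (e : G) (h.trans ((hstab e).2 (hEL e.2)).symm))
    have hb : Function.Bijective (fun e : E => (⟨(e : G) • φ, hne e⟩ : {x : Φ // x ≠ φ₀})) := by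
      refine Function.Injective.bijective_of_nat_card_le (fun a b h => ?_) ?_
      · have h' : (a : G) • φ = (b : G) • φ := congrArg Subtype.val h
        by_contra hne'
        exact hφ (hEfix _ (mul_mem (inv_mem b.2) a.2) (fun e => hne' (Subtype.ext (inv_mul_eq_one.1 e).symm)) φ
          (by rw [mul_smul, h', inv_smul_smul]))
      · rw [hEq, Nat.card_eq_fintype_card, Fintype.card_subtype_compl, Fintype.card_subtype_eq, hΦ]
        omega
    obtain ⟨e, he⟩ := hb.2 ⟨ψ, hψ⟩
    exact ⟨e, e.2, congrArg Subtype.val he⟩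
  have hthree : ∀ g : G, ∀ a b c : Φ, a ≠ b → b ≠ c → a ≠ c → g • a = a → g • b = b → g • c = c → g = 1 := by
    intro g a b c hab hbc hac ga gb gc
    obtain ⟨k, hk⟩ := exists_smul_eq G a φ₀
    have hb' : k • b ≠ φ₀ := fun e => hab (smul_left_cancel k (hk.trans e.symm))
    have hc' : k • c ≠ φ₀ := fun e => hac (smul_left_cancel k (hk.trans e.symm))
    obtain ⟨e, he, hec⟩ := hEtr _ _ hb' hc'
    set g' := k * g * k⁻¹ with hg'
    have g0 : g' • φ₀ = φ₀ := by rw [hg', mul_smul, mul_smul, ← hk, inv_smul_smul, ga]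
    have g1 : g' • k • b = k • b := by rw [hg', mul_smul, mul_smul, inv_smul_smul, gb]
    have g2 : g' • k • c = k • c := by rw [hg', mul_smul, mul_smul, inv_smul_smul, gc]
    have hgL := (hstab _).1 g0
    have hge : g' * e * g'⁻¹ ∈ E := (mem_normalizer_iff.1 hgL e).1 he
    have heq : g' * e * g'⁻¹ = e := by
      have h1 : (g' * e * g'⁻¹) • k • b = e • k • b := by
        rw [mul_smul, mul_smul, inv_smul_eq_iff.2 g1.symm, hec, g2]
      by_contra hne'
      exact hb' (hEfix _ (mul_mem (inv_mem he) hge) (fun h => hne' (inv_mul_eq_one.1 h).symm) _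
        (by rw [mul_smul, h1, inv_smul_smul]))
    have he1 : e ≠ 1 := fun h => hbc (smul_left_cancel k (by rw [← hec, h, one_smul]))
    have hgE : g' ∈ E := hcentE e he he1 g' (mul_inv_eq_iff_eq_mul.1 heq)
    by_contra hne'
    exact hb' (hEfix g' hgE (fun h => hne' (conj_eq_one_iff.1 h)) _ g1)
  have hsharp : ∀ t : Fin 3 ↪ Φ, stabilizer G t = ⊥ := by
    intro t
    rw [Subgroup.eq_bot_iff_forall]
    intro g hg
    have h1 : ∀ i, g • t i = t i := fun i => DFunLike.congr_fun hg i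
    exact hthree g (t 0) (t 1) (t 2) (t.injective.ne (by decide)) (t.injective.ne (by decide))
      (t.injective.ne (by decide)) (h1 0) (h1 1) (h1 2)
  have h3 : IsMultiplyPretransitive G Φ 3 := by
    refine ⟨fun s t => ?_⟩
    have hinj : Function.Injective fun g : G => g • s := fun g g' hgg => by
      have h1 : g'⁻¹ * g ∈ stabilizer G s := by
        rw [mem_stabilizer_iff, mul_smul, inv_smul_eq_iff]; exact hgg
      rw [hsharp, Subgroup.mem_bot] at h1
      exact (inv_mul_eq_one.1 h1).symm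
    have hbij := hinj.bijective_of_nat_card_le (by
      rw [Nat.card_eq_fintype_card (α := Fin 3 ↪ Φ), Fintype.card_embedding_eq, Fintype.card_fin, hΦ, hGcard]
      obtain ⟨k, hk⟩ : ∃ k, 2 * f = k + 1 := ⟨2 * f - 1, by have := hC.nfix_pos; omega⟩
      rw [hk]
      simp [Nat.descFactorial_succ]
      exact le_of_eq (by ring))
    exact hbij.2 t
  haveI : FaithfulSMul G Φ := ⟨fun {g g'} h => by
    have h5 : 3 ≤ Fintype.card Φ := by have := hC.nfix_pos; omega
    obtain ⟨t⟩ : Nonempty (Fin 3 ↪ Φ) := Function.Embedding.nonempty_of_card_le (by simpa using h5)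
    have h1 : g'⁻¹ * g ∈ stabilizer G t := by
      rw [mem_stabilizer_iff]
      ext i
      show (g'⁻¹ * g) • t i = t i
      rw [mul_smul, h, inv_smul_smul]
    rw [hsharp, Subgroup.mem_bot] at h1
    exact (inv_mul_eq_one.1 h1).symm⟩
  let P : Subgroup (Equiv.Perm Φ) := (MulAction.toPermHom G Φ).range
  let isoP : G ≃* P := MonoidHom.ofInjective MulAction.toPerm_injective
  have h3P : IsMultiplyPretransitive P Φ 3 := ⟨fun s t => by
    obtain ⟨g, hg⟩ := h3.exists_smul_eq s t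
    exact ⟨isoP g, by rw [← hg]; ext i; rfl⟩⟩
  have hsharpP : ∀ t : Fin 3 ↪ Φ, stabilizer P t = ⊥ := by
    intro t
    rw [Subgroup.eq_bot_iff_forall]
    intro q hq
    obtain ⟨g, rfl⟩ := isoP.surjective q
    have hg : g ∈ stabilizer G t := by
      rw [mem_stabilizer_iff] at hq ⊢
      ext i
      exact DFunLike.congr_fun hq i
    rw [hsharp, Subgroup.mem_bot] at hg
    rw [hg, map_one]
  have h3le : 3 ≤ Fintype.card Φ := by have := hC.nfix_pos; omega
  obtain ⟨F, iF, iFF, hF, hchar, ⟨iso0⟩⟩ :=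
    Cfsg.Lib.RankOne.sharp_odd (G := P) h3P hsharpP h3le (by rw [hΦ]; exact ⟨f, rfl⟩)
  let iso := isoP.trans iso0
  obtain ⟨iso2⟩ := Cfsg.Lib.RankOne.pgl_mulEquiv_sl (F := F) hchar
  have hcenter : Subgroup.center (Matrix.SpecialLinearGroup (Fin 2) F) = ⊥ := by
    rw [eq_bot_iff]
    intro s hs
    haveI : CharP F 2 := hchar ▸ ringChar.charP F
    obtain ⟨r, hr, hs'⟩ := Matrix.SpecialLinearGroup.mem_center_iff.1 hs
    rw [Fintype.card_fin] at hr
    have hr1 : r = 1 := by
      have h5 : (2 : F) = 0 := CharTwo.two_eq_zero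
      have h4 : (r - 1) * (r - 1) = 0 := by linear_combination hr - (r - 1) * h5
      exact sub_eq_zero.1 (mul_self_eq_zero.1 h4)
    rw [Subgroup.mem_bot]
    ext i k
    rw [← hs', hr1]
    simp [Matrix.scalar_apply]
  let isoS : G ≃* Matrix.SpecialLinearGroup (Fin 2) F := iso.trans iso2
  let ψ : Matrix.SpecialLinearGroup (Fin 2) F ≃* Matrix.ProjectiveSpecialLinearGroup (Fin 2) F :=
    MulEquiv.ofBijective (QuotientGroup.mk' (Subgroup.center (Matrix.SpecialLinearGroup (Fin 2) F)))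
      ⟨by rw [← MonoidHom.ker_eq_bot_iff, QuotientGroup.ker_mk', hcenter], QuotientGroup.mk'_surjective _⟩
  -- `M` is cyclic
  letI : CommGroup M := { (inferInstance : Group M) with mul_comm := fun a b => Subtype.ext (hC.comm a.2 b.2) }
  letI : DistribMulAction M (Fin 2 → F) :=
    { smul := fun a v => (isoS (a : G) : Matrix (Fin 2) (Fin 2) F).mulVec v
      one_smul := fun v => by
        show (isoS ((1 : M) : G) : Matrix (Fin 2) (Fin 2) F).mulVec v = v
        rw [OneMemClass.coe_one, map_one, Matrix.SpecialLinearGroup.coe_one, Matrix.one_mulVec]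
      mul_smul := fun a b v => by
        show (isoS ((a * b : M) : G) : Matrix (Fin 2) (Fin 2) F).mulVec v = _
        rw [Subgroup.coe_mul, map_mul, Matrix.SpecialLinearGroup.coe_mul, ← Matrix.mulVec_mulVec]
        rfl
      smul_zero := fun a => Matrix.mulVec_zero _
      smul_add := fun a v w => Matrix.mulVec_add _ v w }
  have hMcyc : IsCyclic M := isCyclic_of_no_fixed (E := Fin 2 → F) fun a v hav => by
    refine or_iff_not_imp_right.2 fun hv => Subtype.ext (hC.eq_one_of_two a.2 ?_)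
    have h := sl_two_fixed hchar (isoS (a : G)) hv hav
    rw [← map_mul] at h
    exact isoS.injective (by rw [h, map_one])
  have hFc : Fintype.card F = 2 ^ (d + 1) := by
    rw [hΦ, hfd] at hF
    rw [pow_succ]
    omega
  exact ⟨F, iF, iFF, d + 1, by omega, hFc, hMcyc, by rw [hm, hfd, pow_succ]; ring, ⟨isoS.trans ψ⟩⟩

end Cfsg.Lib.TICount
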