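import Cfsg.Agent.TICount.ManyFixed
import Cfsg.Agent.Frobenius.FpfGroups
import Cfsg.Prelude.Def_Transfer

/-!
The affine case: the fixed point free involutions form a normal complement.
-/

set_option autoImplicit false
set_option linter.unusedSectionVars false

namespace Cfsg.Lib.TICount

open Subgroup MulAction

universe u v

variable {G : Type u} [Group G] [Finite G] {Ω : Type v} [MulAction G Ω] [IsPretransitive G Ω] [Finite Ω]
  {M : Subgroup G} {z : G} {α : Ω}

theorem affine_case (hC : Cfg M z α) (hcz : ∀ c ∈ cz M z, c = 1 ∨ c = z) {d : ℕ} (hd : 1 ≤ d)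
    (hfd : nfix Ω z = 2 ^ d) (hm : Nat.card M = nfix Ω z + 1) (hn : Nat.card Ω = nfix Ω z * nfix Ω z) :
    ∃ (d : ℕ) (E : Subgroup G), 1 ≤ d ∧ E.Normal ∧ Cfsg.IsElementaryAbelian 2 E ∧ Nat.card E = 2 ^ (2 * d) ∧
        E ⊓ Subgroup.normalizer (M : Set G) = ⊥ ∧ E ⊔ Subgroup.normalizer (M : Set G) = ⊤ ∧
        Nonempty (↥(Subgroup.normalizer (M : Set G)) ≃* DihedralGroup (2 ^ d + 1)) := by
  classical
  set f := nfix Ω z with hf
  have hf2 : 2 ≤ f := by rw [hfd]; exact Nat.le_self_pow (by omega) 2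
  have hfpos : 0 < f := by omega
  have htrans : ∀ {x y y' : G}, ZI Ω x → Commute x y → Commute x y' → Commute y y' := fun hx hy hy' =>
    hC.cent_comm hcz hx hy.symm hy'.symm
  have hblock : ∀ {y : G}, ZI Ω y → Nat.card {x : G // ZI Ω x ∧ Commute y x} = f := fun hy => by
    have h := hC.card_block hy
    rw [hn] at h
    exact (Nat.eq_of_mul_eq_mul_right hfpos h).symm
  have hZcard : Nat.card {x : G // ZI Ω x} = f * (f + 1) := by
    have h := hC.card_zi_mul
    rw [← hf, hn, hm] at h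
    exact Nat.eq_of_mul_eq_mul_right hfpos (h.trans (by ring))
  haveI := Fintype.ofFinite {x : G // ZI Ω x}
  haveI := Fintype.ofFinite Ω
  -- non-commuting involutions have a common fixed point
  set Z := {x : G // ZI Ω x}
  have hcommon : ∀ x y : G, ZI Ω x → ZI Ω y → ¬ Commute x y → ∃ a : Ω, x • a = a ∧ y • a = a := by
    let T := Σ a : Ω, {p : {x : G // orderOf x = 2 ∧ x • a = a} × {x : G // orderOf x = 2 ∧ x • a = a} // p.1 ≠ p.2}
    let S := {p : Z × Z // ¬ Commute p.1.1 p.2.1}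
    let Φ : T → S := fun t => ⟨(⟨t.2.1.1.1, t.2.1.1.2.1, t.1, t.2.1.1.2.2⟩, ⟨t.2.1.2.1, t.2.1.2.2.1, t.1, t.2.1.2.2.2⟩),
      fun h => t.2.2 (Subtype.ext (hC.eq_of_commute_fix t.2.1.1.2.1 t.2.1.1.2.2 t.2.1.2.2.1 t.2.1.2.2.2 h))⟩
    have hΦ : Function.Injective Φ := by
      rintro ⟨a, ⟨⟨x, hx, hxa⟩, ⟨y, hy, hya⟩⟩, hxy⟩ ⟨b, ⟨⟨x', hx', hxb⟩, ⟨y', hy', hyb⟩⟩, hxy'⟩ h
      have e1 : x = x' := congrArg (fun s : S => s.1.1.1) h
      have e2 : y = y' := congrArg (fun s : S => s.1.2.1) h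
      subst e1 e2
      by_cases hab : a = b
      · subst hab; rfl
      · exact absurd (Subtype.ext (hC.eq_of_two_fix hx hy hab hxa hxb hya hyb)) hxy
    have hoff : ∀ (α' : Type u) [Fintype α'], Nat.card {p : α' × α' // p.1 ≠ p.2} + Nat.card α' =
        Nat.card α' * Nat.card α' := by
      intro α' _
      rw [← Nat.card_prod α' α', ← Nat.card_sum]
      refine Nat.card_eq_of_bijective (Sum.elim (fun p => p.1) fun a => (a, a)) ⟨?_, ?_⟩
      · rintro (⟨p, hp⟩ | a) (⟨q, hq⟩ | b) h <;> simp only [Sum.elim_inl, Sum.elim_inr] at h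
        · subst h; rfl
        · exact absurd (by rw [h]) hp
        · exact absurd (by rw [← h]) hq
        · cases (Prod.ext_iff.1 h).1; rfl
      · rintro ⟨a, b⟩
        by_cases hab : a = b
        · subst hab; exact ⟨Sum.inr a, rfl⟩
        · exact ⟨Sum.inl ⟨(a, b), hab⟩, rfl⟩
    have hT : Nat.card T = f * f * ((f + 1) * f) := by
      have h1 : ∀ a : Ω, Nat.card {p : {x : G // orderOf x = 2 ∧ x • a = a} × {x : G // orderOf x = 2 ∧ x • a = a} //
          p.1 ≠ p.2} = (f + 1) * f := fun a => by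
        haveI := Fintype.ofFinite {x : G // orderOf x = 2 ∧ x • a = a}
        have := hoff {x : G // orderOf x = 2 ∧ x • a = a}
        rw [hC.card_inv_fix a, hm] at this
        nlinarith
      rw [Nat.card_sigma, Finset.sum_congr rfl fun a _ => h1 a, Finset.sum_const, Finset.card_univ, smul_eq_mul,
        ← Nat.card_eq_fintype_card, hn]
    have hcomm' : Nat.card {p : Z × Z // Commute p.1.1 p.2.1} = f * (f + 1) * f := by
      rw [← hZcard]
      have e : {p : Z × Z // Commute p.1.1 p.2.1} ≃ Σ y : Z, {x : G // ZI Ω x ∧ Commute y.1 x} :=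
        { toFun := fun p => ⟨p.1.1, ⟨p.1.2.1, p.1.2.2, p.2⟩⟩
          invFun := fun q => ⟨(q.1, ⟨q.2.1, q.2.2.1⟩), q.2.2.2⟩
          left_inv := fun p => rfl
          right_inv := fun q => rfl }
      rw [Nat.card_congr e, Nat.card_sigma, Finset.sum_congr rfl fun y _ => hblock y.2]
      simp [Nat.card_eq_fintype_card]
    have hS : Nat.card S = Nat.card T := by
      have e : Nat.card ({p : Z × Z // Commute p.1.1 p.2.1} ⊕ S) = Nat.card (Z × Z) :=
        Nat.card_congr (Equiv.sumCompl fun p : Z × Z => Commute p.1.1 p.2.1)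
      rw [Nat.card_sum, Nat.card_prod, hcomm', hZcard] at e
      rw [hT]
      nlinarith
    intro x y hx hy hxy
    obtain ⟨t, ht⟩ := (hΦ.bijective_of_nat_card_le hS.le).2 ⟨(⟨x, hx⟩, ⟨y, hy⟩), hxy⟩
    have e1 : t.2.1.1.1 = x := congrArg (fun s : S => s.1.1.1) ht
    have e2 : t.2.1.2.1 = y := congrArg (fun s : S => s.1.2.1) ht
    exact ⟨t.1, e1 ▸ t.2.1.1.2.2, e2 ▸ t.2.1.2.2.2⟩
  -- fixed point free involutions
  have hfree : ∀ {v : G}, orderOf v = 2 → (∀ γ : Ω, v • γ ≠ γ) → ∀ y : G, ZI Ω y → Commute (v * y * v⁻¹) y := by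
    intro v hv hvf y hy
    by_contra hc
    have hne : v * y * v⁻¹ ≠ y := fun e => hc (by rw [e])
    have hy' := hC.zi_conj v hy
    obtain ⟨a, ha', ha⟩ := hcommon _ _ hy' hy hc
    have hvv : v * v = 1 := mul_self_of_two hv
    have h1 : y • v⁻¹ • a = v⁻¹ • a := by
      nth_rewrite 2 [← ha']
      rw [mul_smul, mul_smul, inv_smul_smul]
    rw [inv_of_two hv] at h1
    have h2 : (v * y * v⁻¹) • v • a = v • a := by rw [mul_smul, mul_smul, inv_smul_smul, ha]
    exact hne (hC.eq_of_two_fix hy'.1 hy.1 (Ne.symm (hvf a)) ha' h2 ha h1)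
  let K : Subgroup G :=
    { carrier := {g | ∀ y : G, ZI Ω y → Commute (g * y * g⁻¹) y}
      one_mem' := fun y _ => by rw [one_mul, inv_one, mul_one]
      mul_mem' := fun {a b} ha hb y hy => by
        have hy' := hC.zi_conj b hy
        have h1 := ha _ hy'
        rw [show a * b * y * (a * b)⁻¹ = a * (b * y * b⁻¹) * a⁻¹ by group]
        exact htrans hy' h1.symm (hb y hy)
      inv_mem' := fun {a} ha y hy => by
        have hy' := hC.zi_conj a⁻¹ hy
        have h1 := ha _ hy'
        rw [show a * (a⁻¹ * y * a⁻¹⁻¹) * a⁻¹ = y by group] at h1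
        exact h1.symm }
  have hKN : K.Normal := ⟨fun k hk g y hy => by
    have h1 := (hk _ (hC.zi_conj g⁻¹ hy)).map (MulAut.conj g)
    simp only [MulAut.conj_apply] at h1
    convert! h1 using 1 <;> group⟩
  have hconjx : ∀ {x : G}, x ∈ M → Commute (x * z * x⁻¹) z → x = 1 := by
    intro x hx hc
    have h1 : x * z * x⁻¹ = z := hC.eq_of_commute_fix (two_conj x hC.two)
      (by rw [mul_smul, mul_smul, hC.fix_of_mem (M.inv_mem hx), hC.z_fix, hC.fix_of_mem hx]) hC.two hC.z_fix hc.eq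
    by_contra hx1
    exact hC.not_commute hx hx1 hC.two (mul_inv_eq_iff_eq_mul.1 h1).symm
  have hKinf : ∀ g ∈ K, g • α = α → g = 1 := by
    intro g hg hgα
    obtain ⟨a, ha, c, hc, rfl⟩ := hC.exists_decomp (hC.mem_N.2 hgα)
    have h1 := hg z hC.zi_z
    rcases hcz c hc with rfl | rfl
    · rw [mul_one] at h1
      rw [mul_one]
      exact hconjx ha h1
    · rw [mul_assoc a c c, mul_self_of_two hC.two, mul_one, mul_inv_rev, inv_of_two hC.two,
        ← mul_assoc] at h1
      obtain rfl := hconjx ha h1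
      obtain ⟨x, hx, hx1⟩ := M.bot_or_exists_ne_one.resolve_left hC.ne_bot
      have h2 := hg _ (hC.zi_conj x hC.zi_z)
      rw [one_mul] at h2
      have hyfix : (x * c * x⁻¹) • α = α := by
        rw [mul_smul, mul_smul, hC.fix_of_mem (M.inv_mem hx), hC.z_fix, hC.fix_of_mem hx]
      have h3 := hC.eq_of_commute_fix (two_conj c (two_conj x hC.two))
        (by rw [mul_smul, mul_smul, inv_smul_eq_iff.2 hC.z_fix.symm, hyfix, hC.z_fix]) (two_conj x hC.two) hyfix h2.eq
      have h4 : Commute (x * c * x⁻¹) c := (mul_inv_eq_iff_eq_mul.1 h3).symm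
      exact absurd (hconjx hx h4) hx1
  have hKle : Nat.card K ≤ Nat.card Ω := by
    refine Nat.card_le_card_of_injective (fun k : K => (k : G) • α) fun a b h => Subtype.ext ?_
    have h' : (a : G) • α = (b : G) • α := h
    exact (inv_mul_eq_one.1 (hKinf _ (K.mul_mem (K.inv_mem b.2) a.2) (by rw [mul_smul, h', inv_smul_smul]))).symm
  let V := {v : G // orderOf v = 2 ∧ ∀ γ : Ω, v • γ ≠ γ}
  haveI := Fintype.ofFinite V
  have hVK : ∀ v : V, v.1 ∈ K := fun v y hy => hfree v.2.1 v.2.2 y hy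
  have hVcard : Nat.card V * f = f * (f + 1) * (f - 1) := by
    have e : (Σ v : V, {x : G // ZI Ω x ∧ Commute v.1 x}) ≃
        (Σ y : Z, {v : G // (orderOf v = 2 ∧ ∀ γ : Ω, v • γ ≠ γ) ∧ Commute v y.1}) :=
      { toFun := fun p => ⟨⟨p.2.1, p.2.2.1⟩, ⟨p.1.1, p.1.2, p.2.2.2⟩⟩
        invFun := fun q => ⟨⟨q.2.1, q.2.2.1⟩, ⟨q.1.1, q.1.2, q.2.2.2⟩⟩
        left_inv := fun p => rfl
        right_inv := fun q => rfl }
    have h1 : ∀ v : V, Nat.card {x : G // ZI Ω x ∧ Commute v.1 x} = f := fun v => by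
      have h := hC.card_fixfree v.2.1 v.2.2
      rw [hn] at h
      exact (Nat.eq_of_mul_eq_mul_right hfpos h).symm
    have h2 : ∀ y : Z, Nat.card {v : G // (orderOf v = 2 ∧ ∀ γ : Ω, v • γ ≠ γ) ∧ Commute v y.1} = f - 1 := by
      rintro ⟨y, hy⟩
      have hsum : Nat.card ((Unit ⊕ {x : G // ZI Ω x ∧ Commute y x}) ⊕
          {v : G // (orderOf v = 2 ∧ ∀ γ : Ω, v • γ ≠ γ) ∧ Commute v y}) = Nat.card (centralizer ({y} : Set G)) := by
        refine Nat.card_eq_of_bijective (Sum.elim (Sum.elim (fun _ => (1 : centralizer ({y} : Set G)))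
          (fun x => ⟨x.1, mem_centralizer_singleton_iff.2 x.2.2.symm.eq⟩))
          (fun v => ⟨v.1, mem_centralizer_singleton_iff.2 v.2.2.eq⟩)) ⟨?_, ?_⟩
        · refine Function.Injective.sumElim (Function.Injective.sumElim (fun _ _ _ => rfl) ?_ ?_) ?_ ?_
          · exact fun a b h => Subtype.ext (congrArg (fun t : centralizer ({y} : Set G) => (t : G)) h)
          · intro a b h
            have h' : (1 : G) = b.1 := congrArg (fun t : centralizer ({y} : Set G) => (t : G)) h
            exact absurd b.2.1.1 (by rw [← h', orderOf_one]; omega)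
          · exact fun a b h => Subtype.ext (congrArg (fun t : centralizer ({y} : Set G) => (t : G)) h)
          · rintro (_ | x) v h
            · have h' : (1 : G) = v.1 := congrArg (fun t : centralizer ({y} : Set G) => (t : G)) h
              exact absurd v.2.1.1 (by rw [← h', orderOf_one]; omega)
            · have h' : x.1 = v.1 := congrArg (fun t : centralizer ({y} : Set G) => (t : G)) h
              obtain ⟨γ, hγ⟩ := x.2.1.2
              rw [h'] at hγ
              exact v.2.1.2 γ hγ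
        · rintro ⟨g, hg⟩
          have hgc := mem_centralizer_singleton_iff.1 hg
          by_cases hg1 : g = 1
          · exact ⟨Sum.inl (Sum.inl ()), Subtype.ext hg1.symm⟩
          have hg2 := two_of_mul_self (hC.cent_sq hcz hy hgc) hg1
          by_cases hgf : ∃ γ : Ω, g • γ = γ
          · exact ⟨Sum.inl (Sum.inr ⟨g, ⟨hg2, hgf⟩, Commute.symm hgc⟩), rfl⟩
          · push Not at hgf
            exact ⟨Sum.inr ⟨g, ⟨hg2, hgf⟩, hgc⟩, rfl⟩
      rw [Nat.card_sum, Nat.card_sum, hblock hy, show Nat.card Unit = 1 from Nat.card_unique, hC.cent_card hcz hy, ← hf] at hsum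
      show Nat.card {v : G // (orderOf v = 2 ∧ ∀ γ : Ω, v • γ ≠ γ) ∧ Commute v y} = f - 1
      omega
    have h := Nat.card_congr e
    rw [Nat.card_sigma, Nat.card_sigma, Finset.sum_congr rfl fun v _ => h1 v,
      Finset.sum_congr rfl fun y _ => h2 y] at h
    simp only [Finset.sum_const, Finset.card_univ, smul_eq_mul, ← Nat.card_eq_fintype_card] at h
    rw [h, hZcard]
  have hV1 : Nat.card V + 1 = f * f := by
    have h := Nat.eq_of_mul_eq_mul_right hfpos (hVcard.trans (show f * (f + 1) * (f - 1) = ((f + 1) * (f - 1)) * f by ring))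
    obtain ⟨k, hk⟩ : ∃ k, f = k + 1 := ⟨f - 1, by omega⟩
    rw [h, hk, Nat.add_sub_cancel]
    ring
  have hinj : Function.Injective (fun o : Option V => (o.elim 1 fun v => ⟨v.1, hVK v⟩ : K)) := by
    rintro (_ | v) (_ | w) h
    · rfl
    · have h' : (1 : G) = w.1 := congrArg Subtype.val h
      exact absurd w.2.1 (by rw [← h', orderOf_one]; omega)
    · have h' : v.1 = (1 : G) := congrArg Subtype.val h
      exact absurd v.2.1 (by rw [h', orderOf_one]; omega)
    · exact congrArg some (Subtype.ext (congrArg (fun t : K => (t : G)) h))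
  have hKcard : Nat.card K = f * f := by
    refine le_antisymm (hKle.trans hn.le) ?_
    rw [← hV1, ← Finite.card_option]
    exact Nat.card_le_card_of_injective _ hinj
  have hbij := hinj.bijective_of_nat_card_le (by rw [Finite.card_option, hV1, hKcard])
  have hKsq : ∀ k ∈ K, k * k = 1 := by
    intro k hk
    obtain ⟨o, ho⟩ := hbij.2 ⟨k, hk⟩
    rcases o with _ | v
    · have h' : (1 : G) = k := congrArg Subtype.val ho
      rw [← h', one_mul]
    · have h' : v.1 = k := congrArg Subtype.val ho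
      rw [← h', mul_self_of_two v.2.1]
  have hKne : K ≠ ⊥ := fun h => by
    rw [h, Subgroup.card_bot] at hKcard
    have := Nat.mul_le_mul hf2 hf2
    omega
  haveI := hKN
  haveI : IsMulCommutative M := isMulCommutative_iff.2 fun a b => Subtype.ext (hC.comm a.2 b.2)
  have hfpf : Cfsg.Lib.Frobenius.Fpf M K := by
    intro a ha ha1
    rw [eq_bot_iff]
    rintro k ⟨hk, hkc⟩
    by_contra hk1
    exact hC.not_commute ha ha1 (two_of_mul_self (hKsq k hk) (fun e => hk1 (Subgroup.mem_bot.2 e)))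
      (mem_centralizer_singleton_iff.1 hkc)
  have hMcyc : IsCyclic M :=
    hfpf.isCyclic_of_comm (fun a _ => by rw [normalizer_eq_top_iff.2 hKN]; exact Subgroup.mem_top a) hKne
  have hsurj : Function.Surjective (fun k : K => (k : G) • α) := by
    refine (Function.Injective.bijective_of_nat_card_le (f := fun k : K => (k : G) • α) (fun a b h => Subtype.ext ?_) (by rw [hKcard, hn])).2
    have h' : (a : G) • α = (b : G) • α := h
    exact (inv_mul_eq_one.1 (hKinf _ (K.mul_mem (K.inv_mem b.2) a.2) (by rw [mul_smul, h', inv_smul_smul]))).symm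
  refine ⟨d, K, hd, hKN, ⟨isMulCommutative_iff.2 fun a b => Subtype.ext ?_, fun a ha => by rw [pow_two]; exact hKsq a ha⟩,
    by rw [hKcard, hfd, ← pow_add]; ring_nf, ?_, ?_, ?_⟩
  · have h := inv_eq_of_mul_eq_one_right (hKsq _ (K.mul_mem a.2 b.2))
    rw [mul_inv_rev, inv_eq_of_mul_eq_one_right (hKsq _ a.2), inv_eq_of_mul_eq_one_right (hKsq _ b.2)] at h
    exact h.symm
  · rw [eq_bot_iff]
    rintro g ⟨hgK, hgN⟩
    exact Subgroup.mem_bot.2 (hKinf g hgK (hC.mem_N.1 hgN))
  · rw [eq_top_iff]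
    intro g _
    obtain ⟨k, hk⟩ := hsurj (g • α)
    have hk' : (k : G) • α = g • α := hk
    rw [← mul_inv_cancel_left (k : G) g]
    exact mul_mem (mem_sup_left k.2) (mem_sup_right (hC.mem_N.2 (by rw [mul_smul, ← hk', inv_smul_smul])))
  · have h := hC.toHyp.dihedral hcz hMcyc
    rwa [hm, hfd] at h

end Cfsg.Lib.TICount
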