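import Cfsg.Agent.TICount.Common
import Cfsg.Agent.RankOne.SharpPGL
import Cfsg.Agent.RankOne.ZassenhausPSL
import Cfsg.Prelude.Def_Transfer

/-!
The case of two fixed points: `PGL(2, q)`, `PSL(2, q)` or the symmetric group of degree four.
-/

set_option autoImplicit false
set_option linter.unusedSectionVars false

namespace Cfsg.Lib.TICount

open Subgroup MulAction Cfsg.Lib.OddChar.Zassenhaus

universe u v

variable {G : Type u} [Group G] [Finite G] {Ω : Type v} [MulAction G Ω] [IsPretransitive G Ω] [Fintype Ω]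
  {M : Subgroup G} {z : G} {α : Ω}

theorem fixed_card_two (hC : Cfg M z α) (h1 : Nat.card {γ : Ω // γ ≠ α ∧ z • γ = γ} = 1) {a : Ω} {v : G}
    (hv : orderOf v = 2) (hva : v • a = a) : Nat.card {γ : Ω // v • γ = γ} = 2 := by
  classical
  obtain ⟨g, rfl⟩ := hC.conj_z_of_fix hv hva
  have e1 : Nat.card {γ : Ω // (g * z * g⁻¹) • γ = γ} = Nat.card {γ : Ω // z • γ = γ} := by
    refine (Nat.card_congr ((MulAction.toPerm g).subtypeEquiv fun γ => ?_)).symm
    show z • γ = γ ↔ (g * z * g⁻¹) • g • γ = g • γ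
    rw [mul_smul, mul_smul, inv_smul_smul, smul_left_cancel_iff]
  have e2 : Nat.card ({γ : Ω // γ ≠ α ∧ z • γ = γ} ⊕ {γ : Ω // γ = α}) = Nat.card {γ : Ω // z • γ = γ} := by
    refine Nat.card_eq_of_bijective (Sum.elim (fun p => ⟨p.1, p.2.2⟩) (fun p => ⟨p.1, p.2.symm ▸ hC.z_fix⟩)) ⟨?_, ?_⟩
    · rintro (⟨p, hp⟩ | ⟨p, hp⟩) (⟨q, hq⟩ | ⟨q, hq⟩) h <;>
        have h' := congrArg Subtype.val h <;> simp only [Sum.elim_inl, Sum.elim_inr] at h'
      · subst h'; rfl
      · exact absurd (h'.trans hq) hp.1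
      · exact absurd (h'.symm.trans hp) hq.1
      · subst h'; rfl
    · rintro ⟨γ, hγ⟩
      by_cases hγα : γ = α
      · exact ⟨Sum.inr ⟨γ, hγα⟩, rfl⟩
      · exact ⟨Sum.inl ⟨γ, hγα, hγ⟩, rfl⟩
  rw [Nat.card_sum, h1, Nat.card_unique] at e2
  rw [e1, ← e2]

theorem transitive_case (hC : Cfg M z α) (h1 : Nat.card {γ : Ω // γ ≠ α ∧ z • γ = γ} = 1)
    (hlt : Nat.card (cz M z) < Nat.card M) :
    (∃ (F : Type) (_ : Field F) (_ : Fintype F) (p : ℕ) (_ : Fact p.Prime) (_ : CharP F p),
      Fintype.card F = Nat.card M ∧ Cfsg.IsElementaryAbelian p M ∧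
        (Nonempty (G ≃* (GL (Fin 2) F ⧸ Subgroup.center (GL (Fin 2) F))) ∨
         (Fintype.card F % 4 = 1 ∧ Nonempty (G ≃* Matrix.ProjectiveSpecialLinearGroup (Fin 2) F)))) ∨
    (∃ (d : ℕ) (E : Subgroup G), 1 ≤ d ∧ E.Normal ∧ Cfsg.IsElementaryAbelian 2 E ∧ Nat.card E = 2 ^ (2 * d) ∧
        E ⊓ Subgroup.normalizer (M : Set G) = ⊥ ∧ E ⊔ Subgroup.normalizer (M : Set G) = ⊤ ∧
        Nonempty (↥(Subgroup.normalizer (M : Set G)) ≃* DihedralGroup (2 ^ d + 1))) := by
  classical
  have hn : Fintype.card Ω = Nat.card M + 1 := by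
    have := hC.card_points
    rw [h1, mul_one, Nat.card_eq_fintype_card] at this
    omega
  have hm3 := hC.three_le
  obtain ⟨⟨β, hβ, hzβ⟩⟩ := (Nat.card_eq_one_iff_unique.1 h1).2
  have hfix2 := @fixed_card_two _ _ _ _ _ _ _ _ _ _ hC h1
  have hMtr : ∀ γ δ : Ω, γ ≠ α → δ ≠ α → ∃ x ∈ M, x • γ = δ := by
    intro γ δ hγ hδ
    obtain ⟨x, hx, hxf⟩ := hC.exists_fixed_translate hγ
    obtain ⟨y, hy, hyf⟩ := hC.exists_fixed_translate hδ
    haveI := (Nat.card_eq_one_iff_unique.1 h1).1
    have e : x • γ = y • δ := congrArg Subtype.val (Subsingleton.elim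
      (⟨x • γ, hC.smul_ne hx hγ, hxf⟩ : {γ : Ω // γ ≠ α ∧ z • γ = γ}) ⟨y • δ, hC.smul_ne hy hδ, hyf⟩)
    exact ⟨y⁻¹ * x, M.mul_mem (M.inv_mem hy) hx, by rw [mul_smul, e, inv_smul_smul]⟩
  have hthree : ∀ g : G, ∀ a b c : Ω, a ≠ b → b ≠ c → a ≠ c → g • a = a → g • b = b → g • c = c → g = 1 := by
    intro g a b c hab hbc hac ga gb gc
    obtain ⟨w, hw, hwp⟩ := hC.exists_pair_invol hab
    obtain ⟨hwa, hwb⟩ := mem_pairStab.1 hwp
    have hwc : w • c ≠ c := by
      intro e
      have h3 := Nat.card_le_card_of_injective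
        (![⟨a, hwa⟩, ⟨b, hwb⟩, ⟨c, e⟩] : Fin 3 → {γ : Ω // w • γ = γ}) (by
          intro i j hij
          fin_cases i <;> fin_cases j <;> simp [Subtype.ext_iff] at hij ⊢ <;>
            first | exact hab hij | exact hab hij.symm | exact hbc hij | exact hbc hij.symm | exact hac hij | exact hac hij.symm)
      rw [hfix2 hw hwa, Nat.card_fin] at h3
      omega
    have hg : g ∈ pairStab G a b := mem_pairStab.2 ⟨ga, gb⟩
    have hgc : g • w • c = w • c := by rw [← mul_smul, hC.pairStab_comm hab hg hwp, mul_smul, gc]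
    have hww : w • w • c = c := by rw [← mul_smul, mul_self_of_two hw, one_smul]
    have h4 := hC.swap_inverts (Ne.symm hwc) rfl hww (mem_pairStab.2 ⟨gc, hgc⟩)
    have hwg : w * g * w⁻¹ = g := by rw [hC.pairStab_comm hab hwp hg, mul_inv_cancel_right]
    rw [hwg] at h4
    by_contra h0
    exact hwc (by
      rw [← hC.eq_of_pair hab (two_of_mul_self (by nth_rewrite 1 [h4]; exact inv_mul_cancel g) h0) hg hw hwp, gc])
  have htwo : MulAction.IsMultiplyPretransitive G Ω 2 := by
    rw [MulAction.is_two_pretransitive_iff]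
    intro a b c d hab hcd
    obtain ⟨g1, hg1⟩ := exists_smul_eq G a α
    obtain ⟨g2, hg2⟩ := exists_smul_eq G c α
    obtain ⟨x, hx, hxe⟩ := hMtr (g1 • b) (g2 • d) (fun e => hab (smul_left_cancel g1 (hg1.trans e.symm)))
      (fun e => hcd (smul_left_cancel g2 (hg2.trans e.symm)))
    exact ⟨g2⁻¹ * x * g1, by rw [mul_smul, mul_smul, hg1, hC.fix_of_mem hx, ← hg2, inv_smul_smul],
      by rw [mul_smul, mul_smul, hxe, inv_smul_smul]⟩
  haveI hfaith : FaithfulSMul G Ω := ⟨fun {g g'} h => by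
    obtain ⟨c, hcα, hcβ⟩ : ∃ c, c ≠ α ∧ c ≠ β := by
      obtain ⟨c, -, hc⟩ := Finset.exists_mem_notMem_of_card_lt_card (s := ({α, β} : Finset Ω)) (t := Finset.univ)
        (by rw [Finset.card_univ, hn]; exact lt_of_le_of_lt Finset.card_le_two (by omega))
      simp only [Finset.mem_insert, Finset.mem_singleton, not_or] at hc
      exact ⟨c, hc⟩
    refine (inv_mul_eq_one.1 (hthree (g'⁻¹ * g) α β c (Ne.symm hβ) (Ne.symm hcβ) (Ne.symm hcα) ?_ ?_ ?_)).symm <;>
      rw [mul_smul, h, inv_smul_smul]⟩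
  by_cases hreg : ∀ N : Subgroup G, N.Normal → MulAction.IsPretransitive N Ω →
      ∃ a : Ω, MulAction.stabilizer N a ≠ ⊥
  · left
    have hZ : Cfsg.IsZassenhausGroup G Ω := ⟨hfaith, htwo, hthree,
      ⟨z, fun e => by simpa [e] using hC.two, α, β, Ne.symm hβ, hC.z_fix, hzβ⟩, hreg⟩
    set E := stab₂ G α β with hE
    have hEh : Nat.card E = Nat.card (cz M z) := hC.card_pairStab hβ
    have hHf : ∀ u ∈ M, u ≠ 1 → ∀ c : Ω, u • c = c → c = α := fun u hu hu1 c hc => by
      by_contra hcα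
      exact hu1 (hC.semiregular hu hcα hc)
    have hHa : M ≤ stabilizer G α := fun x hx => hC.fix_of_mem hx
    -- every pair swapped by `z` has its own involution
    have hhalf : Fintype.card Ω - 2 ≤ 2 * Nat.card E := by
      have hpair : ∀ γ : {γ : Ω // z • γ ≠ γ}, ∃ w : G, orderOf w = 2 ∧ w ∈ pairStab G γ.1 (z • γ.1) :=
        fun γ => hC.exists_pair_invol (Ne.symm γ.2)
      choose e he2 hep using hpair
      obtain ⟨u, hu, hu1, hu2⟩ := hC.exists_swap (Ne.symm hβ)
      have hmem : ∀ γ, u * e γ ∈ pairStab G α β := by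
        intro γ
        have hzz : z • z • γ.1 = γ.1 := by rw [← mul_smul, mul_self_of_two hC.two, one_smul]
        have hinv := hC.swap_inverts (Ne.symm γ.2) rfl hzz (hep γ)
        rw [inv_of_two (he2 γ), mul_inv_eq_iff_eq_mul] at hinv
        have hfz : ∀ δ : Ω, z • δ = δ → z • e γ • δ = e γ • δ := fun δ hδ => by
          rw [← mul_smul, hinv, mul_smul, hδ]
        have hzero : ∀ δ : Ω, z • δ = δ → δ = α ∨ δ = β := by
          intro δ hδ
          by_contra hne
          push Not at hne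
          haveI := (Nat.card_eq_one_iff_unique.1 h1).1
          exact hne.2 (congrArg Subtype.val (Subsingleton.elim
            (⟨δ, hne.1, hδ⟩ : {γ : Ω // γ ≠ α ∧ z • γ = γ}) ⟨β, hβ, hzβ⟩))
        have hα' : e γ • α ≠ α := by
          intro h0
          have h5 := hC.eq_of_commute_fix (he2 γ) h0 hC.two hC.z_fix hinv.symm
          have h6 := (mem_pairStab.1 (hep γ)).1
          rw [h5] at h6
          exact γ.2 h6
        have hαβ : e γ • α = β := ((hzero _ (hfz α hC.z_fix)).resolve_left hα')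
        have hβα : e γ • β = α := by rw [← hαβ, ← mul_smul, mul_self_of_two (he2 γ), one_smul]
        exact mem_pairStab.2 ⟨by rw [mul_smul, hαβ, hu2], by rw [mul_smul, hβα, hu1]⟩
      haveI := Fintype.ofFinite E
      let F : {γ : Ω // z • γ ≠ γ} → E := fun γ => ⟨u * e γ, hmem γ⟩
      have hcard : Fintype.card {γ : Ω // z • γ ≠ γ} ≤ 2 * Fintype.card E := by
        rw [← Finset.card_univ, ← Finset.card_univ (α := E), mul_comm]
        refine (Finset.card_le_mul_card_image (f := F) _ 2 fun y _ => ?_).trans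
          (Nat.mul_le_mul_left 2 (Finset.card_le_univ _)) |>.trans_eq (mul_comm _ _)
        rcases (Finset.univ.filter fun γ => F γ = y).eq_empty_or_nonempty with h0 | ⟨γ, hγ⟩
        · rw [h0]; simp
        · rw [Finset.mem_filter] at hγ
          have h6 := hfix2 (he2 γ) (mem_pairStab.1 (hep γ)).1
          rw [← h6, ← Fintype.card_coe, ← Nat.card_eq_fintype_card]
          refine Nat.card_le_card_of_injective (fun δ => ⟨δ.1.1, ?_⟩) ?_
          · have hδ := (Finset.mem_filter.1 δ.2).2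
            have h7 : e δ.1 = e γ := mul_left_cancel (congrArg Subtype.val (hδ.trans hγ.2.symm))
            rw [← h7]; exact (mem_pairStab.1 (hep δ.1)).1
          · intro p q hpq
            have h8 : p.1.1 = q.1.1 := congrArg (fun x : {γ' : Ω // e γ • γ' = γ'} => x.1) hpq
            exact Subtype.ext (Subtype.ext h8)
      have h5 : Fintype.card {γ : Ω // z • γ ≠ γ} + 2 = Fintype.card Ω := by
        have h6 := hfix2 hC.two hC.z_fix
        rw [Nat.card_eq_fintype_card] at h6
        rw [Fintype.card_subtype_compl, h6]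
        omega
      rw [Nat.card_eq_fintype_card]
      omega
    obtain ⟨hab', p, f, hp, hf, hexp, hcard⟩ := Cfsg.Lib.RankOne.kernel_elementary hZ (Ne.symm hβ) hhalf hHa hn.symm hHf
    haveI := Fact.mk hp
    have hel : Cfsg.IsElementaryAbelian p M := ⟨hab', hexp⟩
    have hdvd : Nat.card E ∣ Nat.card M - 1 :=
      (fpf (Ne.symm hβ) hZ hHa hHf).card_dvd (A := E) (fun u hu => Subgroup.mem_normalizer_fintype fun v hv => by
        have := (mem_normalizer_iff.1 (hC.mem_N.2 (mem_pairStab.1 hu).1) v).1 hv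
        exact this)
    have hchar : ∀ (F : Type) [Field F] [Fintype F], Fintype.card F = Nat.card M → CharP F p := fun F _ _ hF => by
      rw [hcard] at hF
      exact charP_of_card_eq_prime_pow hF
    obtain ⟨t, ht⟩ := hdvd
    have hE0 : 0 < Nat.card E := Nat.card_pos
    have htt : t = 1 ∨ t = 2 := by
      have h5 : Nat.card E * t ≤ Nat.card E * 2 := by omega
      have h6 := Nat.le_of_mul_le_mul_left h5 hE0
      rcases Nat.eq_zero_or_pos t with rfl | h7
      · omega
      · omega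
    rcases htt with rfl | rfl
    · obtain ⟨F, iF, iFF, hF, hiso⟩ := Cfsg.Lib.RankOne.sharp_pgl hZ (Ne.symm hβ)
        (by change Nat.card E + 2 = _; omega) (fun x hx y hy => hC.pairStab_comm (Ne.symm hβ) hx hy) hHa hn.symm hHf
      exact ⟨F, iF, iFF, p, inferInstance, hchar F hF, hF, hel, Or.inl hiso⟩
    · obtain ⟨F, iF, iFF, hF, -, hiso⟩ := Cfsg.Lib.RankOne.zassenhaus_psl hZ (Ne.symm hβ)
        (by change 2 * Nat.card E + 2 = _; omega) hHa hn.symm hHf hab'
      refine ⟨F, iF, iFF, p, inferInstance, hchar F hF, hF, hel, Or.inr ⟨?_, hiso⟩⟩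
      have h5 : 2 ∣ Nat.card (cz M z) := by
        rw [← hC.two, ← Subgroup.orderOf_mk (a := z) (ha := hC.z_mem_cz)]
        exact orderOf_dvd_natCard _
      rw [hF]
      omega
  · right
    push Not at hreg
    obtain ⟨R, hR, hRt, hRs⟩ := hreg
    haveI := hR
    haveI := hRt
    have hRinj : ∀ r ∈ R, r • α = α → r = 1 := fun r hr h => by
      have h' : (⟨r, hr⟩ : R) ∈ stabilizer R α := h
      rw [hRs, Subgroup.mem_bot] at h'
      exact congrArg Subtype.val h'
    have hRinj' : ∀ r ∈ R, ∀ s ∈ R, r • α = s • α → r = s := fun r hr s hs h =>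
      (inv_mul_eq_one.1 (hRinj _ (R.mul_mem (R.inv_mem hs) hr) (by rw [mul_smul, h, inv_smul_smul]))).symm
    have hRsur : ∀ γ : Ω, ∃ r ∈ R, r • α = γ := fun γ => by
      obtain ⟨r, hr⟩ := exists_smul_eq R α γ
      exact ⟨r, r.2, hr⟩
    have hRcard : Nat.card R = Nat.card M + 1 := by
      rw [← hn, ← Nat.card_eq_fintype_card]
      refine Nat.card_eq_of_bijective (fun r : R => (r : G) • α)
        ⟨fun a b h => Subtype.ext (hRinj' a a.2 b b.2 h), fun γ => ?_⟩
      obtain ⟨r, hr, e⟩ := hRsur γ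
      exact ⟨⟨r, hr⟩, e⟩
    obtain ⟨r0, hr0⟩ := exists_prime_orderOf_dvd_card' (G := R) 2 (by
      rw [hRcard]; exact even_iff_two_dvd.1 hC.odd_card.add_one)
    have hsq : ∀ r ∈ R, r * r = 1 := by
      intro r hr
      rcases eq_or_ne r 1 with rfl | hr1
      · exact one_mul 1
      have hne : ∀ {s : G}, s ∈ R → s ≠ 1 → s • α ≠ α := fun hs hs1 h => hs1 (hRinj _ hs h)
      have hr01 : (r0 : G) ≠ 1 := fun h => by
        rw [← Subgroup.orderOf_coe, h, orderOf_one] at hr0
        omega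
      obtain ⟨x, hx, hxe⟩ := hMtr _ _ (hne r0.2 hr01) (hne hr hr1)
      have hxr : x * r0 * x⁻¹ = r := hRinj' _ (hR.conj_mem _ r0.2 x) r hr (by
        rw [mul_smul, mul_smul, hC.fix_of_mem (M.inv_mem hx), hxe])
      rw [← hxr]
      exact mul_self_of_two (two_conj x (by rwa [Subgroup.orderOf_coe]))
    have hRc : ∀ r ∈ R, ∀ s ∈ R, r * s = s * r := by
      intro r hr s hs
      have h := hsq _ (R.mul_mem hr hs)
      rw [← eq_inv_iff_mul_eq_one, mul_inv_rev, ← eq_inv_iff_mul_eq_one.2 (hsq r hr),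
        ← eq_inv_iff_mul_eq_one.2 (hsq s hs)] at h
      exact h
    letI : CommGroup R := { (inferInstance : Group R) with mul_comm := fun a b => Subtype.ext (hRc a a.2 b b.2) }
    let φ : R →* R := MonoidHom.mk' (fun r => ⟨(r : G) * (z * r * z⁻¹), R.mul_mem r.2 (hR.conj_mem _ r.2 z)⟩)
      (fun a b => Subtype.ext (by
        show (a : G) * b * (z * (a * b) * z⁻¹) = a * (z * a * z⁻¹) * (b * (z * b * z⁻¹))
        have hc1 : (b : G) * (z * a * z⁻¹) = z * a * z⁻¹ * b := hRc _ b.2 _ (hR.conj_mem _ a.2 z)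
        calc (a : G) * b * (z * (a * b) * z⁻¹) = a * (b * (z * a * z⁻¹)) * (z * b * z⁻¹) := by group
          _ = _ := by rw [hc1]; group))
    have hfixC : Nat.card {r : R // z * (r : G) * z⁻¹ = r} ≤ 2 := by
      rw [← hfix2 hC.two hC.z_fix]
      refine Nat.card_le_card_of_injective (fun r => ⟨((r.1 : R) : G) • α, ?_⟩) ?_
      · conv_rhs => rw [← r.2]
        rw [mul_smul, mul_smul, inv_smul_eq_iff.2 hC.z_fix.symm]
      · intro a b h
        exact Subtype.ext (Subtype.ext (hRinj' _ a.1.2 _ b.1.2 (congrArg Subtype.val h)))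
    have hker : Nat.card φ.ker ≤ 2 := by
      refine le_trans (Nat.card_le_card_of_injective
        (fun r : φ.ker => (⟨r.1, ?_⟩ : {r : R // z * (r : G) * z⁻¹ = r})) ?_) hfixC
      · have h : ((r.1 : R) : G) * (z * ((r.1 : R) : G) * z⁻¹) = 1 := congrArg Subtype.val r.2
        rw [← inv_eq_of_mul_eq_one_right h, inv_eq_of_mul_eq_one_right (hsq _ r.1.2)]
      · exact fun a b h => Subtype.ext (congrArg (fun x : {r : R // z * (r : G) * z⁻¹ = r} => x.1) h)
    have hran : Nat.card φ.range ≤ 2 := by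
      refine le_trans (Nat.card_le_card_of_injective
        (fun r : φ.range => (⟨r.1, ?_⟩ : {r : R // z * (r : G) * z⁻¹ = r})) ?_) hfixC
      · obtain ⟨s, hs⟩ := r.2
        rw [← hs]
        show z * ((s : G) * (z * s * z⁻¹)) * z⁻¹ = (s : G) * (z * s * z⁻¹)
        rw [inv_of_two hC.two]
        calc z * ((s : G) * (z * s * z)) * z = z * s * z * s * (z * z) := by group
          _ = (z * s * z) * s := by rw [mul_self_of_two hC.two, mul_one]
          _ = _ := by
              refine hRc _ ?_ _ s.2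
              have := hR.conj_mem _ s.2 z
              rwa [inv_of_two hC.two] at this
      · exact fun a b h => Subtype.ext (congrArg (fun x : {r : R // z * (r : G) * z⁻¹ = r} => x.1) h)
    have hm : Nat.card M = 3 := by
      have h5 := φ.ker.card_mul_index
      rw [Subgroup.index_ker] at h5
      have := Nat.mul_le_mul hker hran
      omega
    have hh : ∀ c ∈ cz M z, c = 1 ∨ c = z := by
      intro c hc
      by_contra hne
      push Not at hne
      have h5 : 3 ≤ Nat.card (cz M z) := by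
        rw [← Nat.card_fin 3]
        refine Nat.card_le_card_of_injective
          (![⟨1, one_mem _⟩, ⟨z, hC.z_mem_cz⟩, ⟨c, hc⟩] : Fin 3 → cz M z) ?_
        have hz1 : z ≠ 1 := fun e => by simpa [e] using hC.two
        intro i j hij
        fin_cases i <;> fin_cases j <;> simp [Subtype.ext_iff] at hij ⊢ <;>
          first | exact hz1 hij | exact hz1 hij.symm | exact hne.1 hij | exact hne.1 hij.symm | exact hne.2 hij | exact hne.2 hij.symm
      omega
    haveI : Fact (Nat.Prime 3) := ⟨by norm_num⟩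
    refine ⟨1, R, le_rfl, hR, ⟨isMulCommutative_iff.2 fun a b => Subtype.ext (hRc a a.2 b b.2),
      fun a ha => by rw [pow_two]; exact hsq a ha⟩, by rw [hRcard, hm]; norm_num, ?_, ?_, ?_⟩
    · rw [eq_bot_iff]
      rintro g ⟨hgR, hgN⟩
      exact Subgroup.mem_bot.2 (hRinj g hgR (hC.mem_N.1 hgN))
    · rw [eq_top_iff]
      intro g _
      obtain ⟨r, hr, e⟩ := hRsur (g • α)
      rw [← mul_inv_cancel_left r g]
      exact mul_mem (mem_sup_left hr) (mem_sup_right (hC.mem_N.2 (by rw [mul_smul, ← e, inv_smul_smul])))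
    · have h5 := hC.toHyp.dihedral hh (isCyclic_of_prime_card hm)
      rw [hm] at h5
      norm_num
      exact h5

end Cfsg.Lib.TICount
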