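import Mathlib

/-!
A trivial intersection subgroup with many involutions: first properties and the coset count.
-/

set_option autoImplicit false
set_option linter.unusedSectionVars false

namespace Cfsg.Lib.TICount

open Subgroup

universe u

variable {G : Type u} [Group G] [Finite G]

theorem mul_self_of_two {u : G} (hu : orderOf u = 2) : u * u = 1 := by
  rw [← pow_two, ← hu, pow_orderOf_eq_one]

theorem inv_of_two {u : G} (hu : orderOf u = 2) : u⁻¹ = u := inv_eq_of_mul_eq_one_right (mul_self_of_two hu)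

theorem two_of_mul_self {u : G} (h : u * u = 1) (h1 : u ≠ 1) : orderOf u = 2 :=
  orderOf_eq_prime (by rw [pow_two, h]) h1

theorem two_conj {u : G} (g : G) (hu : orderOf u = 2) : orderOf (g * u * g⁻¹) = 2 :=
  ((MulAut.conj g).orderOf_eq u).trans hu

/-- The hypotheses on a trivial intersection subgroup. -/
structure Hyp (M : Subgroup G) (z : G) : Prop where
  ne_bot : M ≠ ⊥
  ti : ∀ g : G, M ⊓ M.map (MulAut.conj g).toMonoidHom ≠ ⊥ → M.map (MulAut.conj g).toMonoidHom = M
  two : orderOf z = 2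
  znorm : z ∈ normalizer (M : Set G)
  fac : M ⊔ (normalizer (M : Set G) ⊓ centralizer ({z} : Set G)) = normalizer (M : Set G)
  odd : ∀ x ∈ M, x ≠ 1 → Odd (Nat.card ↥(centralizer ({x} : Set G)))

/-- The part of the normaliser centralising the involution. -/
abbrev cz (M : Subgroup G) (z : G) : Subgroup G := normalizer (M : Set G) ⊓ centralizer ({z} : Set G)

namespace Hyp

variable {M : Subgroup G} {z : G} (hH : Hyp M z)
include hH

theorem mem_cz {c : G} : c ∈ cz M z ↔ c ∈ normalizer (M : Set G) ∧ c * z = z * c := by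
  rw [Subgroup.mem_inf, Subgroup.mem_centralizer_singleton_iff]

theorem odd_order {x : G} (hx : x ∈ M) : Odd (orderOf x) := by
  rcases eq_or_ne x 1 with rfl | h1
  · rw [orderOf_one]; exact odd_one
  · exact (hH.odd x hx h1).of_dvd_nat (by
      have h := orderOf_dvd_natCard (⟨x, mem_centralizer_singleton_iff.2 rfl⟩ : centralizer ({x} : Set G))
      rwa [← Subgroup.orderOf_coe] at h)

theorem not_commute {x u : G} (hx : x ∈ M) (hx1 : x ≠ 1) (hu : orderOf u = 2) : u * x ≠ x * u := by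
  intro h
  have h1 := orderOf_dvd_natCard (⟨u, mem_centralizer_singleton_iff.2 h⟩ : centralizer ({x} : Set G))
  rw [← Subgroup.orderOf_coe] at h1
  change orderOf u ∣ _ at h1
  rw [hu] at h1
  obtain ⟨k, hk⟩ := hH.odd x hx hx1
  omega

theorem eq_one_of_two {x : G} (hx : x ∈ M) (h : x * x = 1) : x = 1 := by
  by_contra h1
  obtain ⟨k, hk⟩ := hH.odd_order hx
  rw [two_of_mul_self h h1] at hk
  omega

theorem inverts {u : G} (hu : orderOf u = 2) (huN : u ∈ normalizer (M : Set G)) {x : G} (hx : x ∈ M) :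
    u * x * u⁻¹ = x⁻¹ := by
  have hmem : ∀ y ∈ M, u * y * u⁻¹ ∈ M := fun y hy => (mem_normalizer_iff.1 huN y).1 hy
  let f : M → M := fun y => ⟨(y : G)⁻¹ * (u * y * u⁻¹), M.mul_mem (M.inv_mem y.2) (hmem y y.2)⟩
  have hf : Function.Injective f := by
    intro a b hab
    have h : (a : G)⁻¹ * (u * a * u⁻¹) = (b : G)⁻¹ * (u * b * u⁻¹) := congrArg Subtype.val hab
    apply Subtype.ext
    by_contra hne
    refine hH.not_commute (M.mul_mem b.2 (M.inv_mem a.2)) (fun e => hne (mul_inv_eq_one.1 e).symm) hu ?_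
    calc u * ((b : G) * (a : G)⁻¹)
        = u * b * u⁻¹ * ((a : G)⁻¹ * (u * a * u⁻¹))⁻¹ * (a : G)⁻¹ * u := by group
      _ = u * b * u⁻¹ * ((b : G)⁻¹ * (u * b * u⁻¹))⁻¹ * (a : G)⁻¹ * u := by rw [h]
      _ = (b : G) * (a : G)⁻¹ * u := by group
  obtain ⟨y, hy⟩ := (Finite.injective_iff_surjective.1 hf) ⟨x, hx⟩
  have hx' : (y : G)⁻¹ * (u * y * u⁻¹) = x := congrArg Subtype.val hy
  rw [← hx']
  have h2 := mul_self_of_two hu
  have hi := inv_of_two hu
  calc u * ((y : G)⁻¹ * (u * y * u⁻¹)) * u⁻¹ = u * (y : G)⁻¹ * u * y * (u⁻¹ * u⁻¹) := by group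
    _ = u * (y : G)⁻¹ * u * y := by rw [← mul_inv_rev, h2, inv_one, mul_one]
    _ = ((y : G)⁻¹ * (u * y * u⁻¹))⁻¹ := by
      rw [mul_inv_rev, mul_inv_rev, mul_inv_rev, inv_inv, inv_inv, hi]; group

theorem conj_z {x : G} (hx : x ∈ M) : z * x * z = x⁻¹ := by
  conv_lhs => arg 2; rw [← inv_of_two hH.two]
  exact hH.inverts hH.two hH.znorm hx

theorem comm {x y : G} (hx : x ∈ M) (hy : y ∈ M) : x * y = y * x := by
  have h := hH.inverts hH.two hH.znorm (M.mul_mem hx hy)
  rw [show z * (x * y) * z⁻¹ = (z * x * z⁻¹) * (z * y * z⁻¹) by group, hH.inverts hH.two hH.znorm hx,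
    hH.inverts hH.two hH.znorm hy, ← mul_inv_rev, inv_inj] at h
  exact h.symm

theorem three_le : 3 ≤ Nat.card M := by
  obtain ⟨x, hx, hx1⟩ := M.bot_or_exists_ne_one.resolve_left hH.ne_bot
  have h := Nat.le_of_dvd Nat.card_pos (orderOf_dvd_natCard (⟨x, hx⟩ : M))
  rw [← Subgroup.orderOf_coe] at h
  have h2 : orderOf x ≠ 1 := fun e => hx1 (orderOf_eq_one_iff.1 e)
  obtain ⟨k, hk⟩ := hH.odd_order hx
  change orderOf x ≤ _ at h
  omega

theorem odd_card : Odd (Nat.card M) := by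
  rw [← Nat.not_even_iff_odd, even_iff_two_dvd]
  intro h
  obtain ⟨x, hx⟩ := exists_prime_orderOf_dvd_card' (G := M) 2 h
  obtain ⟨k, hk⟩ := hH.odd_order x.2
  rw [Subgroup.orderOf_coe, hx] at hk
  omega

theorem exists_sqrt {a : G} (ha : a ∈ M) : ∃ x ∈ M, x * x = a := by
  obtain ⟨k, hk⟩ := hH.odd_order ha
  refine ⟨a ^ (k + 1), M.pow_mem ha _, ?_⟩
  rw [← pow_add, show k + 1 + (k + 1) = orderOf a + 1 by omega, pow_succ, pow_orderOf_eq_one, one_mul]

theorem z_mem_cz : z ∈ cz M z := hH.mem_cz.2 ⟨hH.znorm, rfl⟩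

theorem cz_inf {x : G} (hx : x ∈ M) (hc : x ∈ cz M z) : x = 1 := by
  by_contra h1
  exact hH.not_commute hx h1 hH.two (hH.mem_cz.1 hc).2.symm

theorem exists_decomp {g : G} (hg : g ∈ normalizer (M : Set G)) : ∃ a ∈ M, ∃ c ∈ cz M z, a * c = g := by
  have h : g ∈ ((M ⊔ cz M z : Subgroup G) : Set G) := by
    rw [show M ⊔ cz M z = normalizer (M : Set G) from hH.fac]; exact hg
  rw [Subgroup.coe_mul_of_right_le_normalizer_left M (cz M z) inf_le_left] at h
  obtain ⟨a, ha, c, hc, e⟩ := Set.mem_mul.1 h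
  exact ⟨a, ha, c, hc, e⟩

theorem mul_z_mem {u : G} (hu : orderOf u = 2) (huN : u ∈ normalizer (M : Set G)) : u * z ∈ M := by
  obtain ⟨a, ha, c, hc, e⟩ := hH.exists_decomp huN
  have hc' : c = a⁻¹ * u := by rw [← e, inv_mul_cancel_left]
  have hcc : c * c = 1 := by
    have h := hH.inverts hu huN (M.inv_mem ha)
    rw [inv_inv, inv_of_two hu] at h
    rw [hc', show a⁻¹ * u * (a⁻¹ * u) = a⁻¹ * (u * a⁻¹ * u) by group, h, inv_mul_cancel]
  have hc1 : c ≠ 1 := by
    intro h
    rw [h, mul_one] at e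
    subst e
    obtain ⟨k, hk⟩ := hH.odd_order ha
    omega
  have hc2 := two_of_mul_self hcc hc1
  obtain ⟨hcN, hcz⟩ := hH.mem_cz.1 hc
  have hcz' : c = z := by
    by_contra hne
    obtain ⟨x, hx, hx1⟩ := M.bot_or_exists_ne_one.resolve_left hH.ne_bot
    refine hH.not_commute (u := c * z) hx hx1 (two_of_mul_self ?_ ?_) ?_
    · calc c * z * (c * z) = c * (z * c) * z := by group
        _ = c * c * (z * z) := by rw [← hcz]; group
        _ = 1 := by rw [hcc, mul_self_of_two hH.two, one_mul]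
    · intro h
      exact hne (by rw [mul_eq_one_iff_eq_inv.1 h, inv_of_two hH.two])
    · have h1 := hH.inverts hH.two hH.znorm hx
      have h3 := hH.inverts hc2 hcN (M.inv_mem hx)
      rw [inv_inv, ← h1] at h3
      rw [← mul_inv_eq_iff_eq_mul]
      nth_rewrite 2 [← h3]
      group
  rw [← e, hcz', mul_assoc, mul_self_of_two hH.two, mul_one]
  exact ha

theorem z_mul {x : G} (hx : x ∈ M) : orderOf (z * x) = 2 := by
  refine two_of_mul_self ?_ fun h => ?_
  · rw [show z * x * (z * x) = (z * x * z) * x by group, hH.conj_z hx, inv_mul_cancel]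
  · have : z ∈ M := by rw [mul_eq_one_iff_eq_inv.1 h]; exact M.inv_mem hx
    obtain ⟨k, hk⟩ := hH.odd_order this
    rw [hH.two] at hk
    omega

theorem eq_of_commute {u v : G} (hu : orderOf u = 2) (huN : u ∈ normalizer (M : Set G)) (hv : orderOf v = 2)
    (hvN : v ∈ normalizer (M : Set G)) (h : u * v = v * u) : u = v := by
  have hm : u * v ∈ M := by
    have h1 := M.mul_mem (hH.mul_z_mem hu huN) (M.inv_mem (hH.mul_z_mem hv hvN))
    rwa [mul_inv_rev, mul_assoc, mul_inv_cancel_left, inv_of_two hv] at h1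
  have : u * v = 1 := hH.eq_one_of_two hm (by
    rw [show u * v * (u * v) = u * (v * u) * v by group, ← h, show u * (u * v) * v = (u * u) * (v * v) by group,
      mul_self_of_two hu, mul_self_of_two hv, one_mul])
  rw [mul_eq_one_iff_eq_inv.1 this, inv_of_two hv]

theorem mem_normalizer_of_conj_mem {g a : G} (ha : a ∈ M) (ha1 : a ≠ 1) (h : g * a * g⁻¹ ∈ M) :
    g ∈ normalizer (M : Set G) := by
  have h1 : M.map (MulAut.conj g).toMonoidHom = M := by
    refine hH.ti g fun e => ?_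
    have h2 : g * a * g⁻¹ ∈ M ⊓ M.map (MulAut.conj g).toMonoidHom := ⟨h, a, ha, rfl⟩
    rw [e, mem_bot, conj_eq_one_iff] at h2
    exact ha1 h2
  rw [mem_normalizer_iff]
  intro y
  refine ⟨fun hy => h1.le ⟨y, hy, rfl⟩, fun hy => ?_⟩
  obtain ⟨a', ha', e⟩ := h1.ge hy
  rwa [← (MulAut.conj g).injective e]

theorem mem_normalizer_of_same_coset {u v : G} (hu : orderOf u = 2) (hv : orderOf v = 2) (hne : u ≠ v)
    (h : u⁻¹ * v ∈ M) : u ∈ normalizer (M : Set G) := by
  rw [inv_of_two hu] at h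
  refine hH.mem_normalizer_of_conj_mem h (fun e => hne ?_) ?_
  · rw [← mul_one u, ← e, ← mul_assoc, mul_self_of_two hu, one_mul]
  · rw [inv_of_two hu, ← mul_assoc, mul_self_of_two hu, one_mul]
    have := M.inv_mem h
    rwa [mul_inv_rev, inv_of_two hu, inv_of_two hv] at this

theorem card_normalizer : Nat.card (normalizer (M : Set G)) = Nat.card M * Nat.card (cz M z) := by
  rw [← Nat.card_prod]
  refine (Nat.card_eq_of_bijective (fun p : M × cz M z => (⟨(p.1 : G) * p.2,
    mul_mem (le_normalizer p.1.2) (hH.mem_cz.1 p.2.2).1⟩ : normalizer (M : Set G))) ⟨?_, ?_⟩).symm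
  · rintro ⟨a, c⟩ ⟨a', c'⟩ h
    have h' : (a : G) * c = a' * c' := congrArg Subtype.val h
    have h1 : (a' : G)⁻¹ * a = c' * (c : G)⁻¹ := by
      calc (a' : G)⁻¹ * a = (a' : G)⁻¹ * ((a : G) * c) * (c : G)⁻¹ := by group
        _ = _ := by rw [h']; group
    have h2 := hH.cz_inf (M.mul_mem (M.inv_mem a'.2) a.2) (h1 ▸ (cz M z).mul_mem c'.2 ((cz M z).inv_mem c.2))
    exact Prod.ext (Subtype.ext (inv_mul_eq_one.1 h2).symm)
      (Subtype.ext (mul_inv_eq_one.1 (h1.symm.trans h2)).symm)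
  · rintro ⟨g, hg⟩
    obtain ⟨a, ha, c, hc, e⟩ := hH.exists_decomp hg
    exact ⟨⟨⟨a, ha⟩, ⟨c, hc⟩⟩, Subtype.ext e⟩

/-- With more involutions than cosets of `M`, every coset outside the normaliser contains an involution. -/
theorem count (hI : M.index < Nat.card {g : G // orderOf g = 2}) :
    Nat.card (cz M z) < Nat.card M ∧
      ∀ g : G, g ∉ normalizer (M : Set G) → ∃ x ∈ M, orderOf (g * x) = 2 := by
  classical
  let N := normalizer (M : Set G)
  let Jt := {u : G // orderOf u = 2 ∧ u ∉ N}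
  let out : G ⧸ M → Prop := fun c => ∃ g : G, QuotientGroup.mk g = c ∧ g ∉ N
  let B := {c : G ⧸ M // out c ∧ ∀ u : G, orderOf u = 2 → QuotientGroup.mk u ≠ c}
  have hMN : M ≤ N := le_normalizer
  have hout : ∀ {g : G}, out (QuotientGroup.mk g) → g ∉ N := by
    rintro g ⟨g', e, hg'⟩ hg
    refine hg' ?_
    have := mul_mem hg (hMN (QuotientGroup.eq.1 e.symm))
    rwa [mul_inv_cancel_left] at this
  have h1 : Nat.card {g : G // orderOf g = 2} ≤ Nat.card M + Nat.card Jt := by
    rw [← Nat.card_sum]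
    refine Nat.card_le_card_of_injective (fun u => if h : u.1 ∈ N then Sum.inl ⟨u.1 * z, hH.mul_z_mem u.2 h⟩
      else Sum.inr ⟨u.1, u.2, h⟩) ?_
    rintro ⟨u, hu⟩ ⟨v, hv⟩ h
    simp only at h
    split_ifs at h
    · injection h with h'
      exact Subtype.ext (mul_right_cancel (congrArg Subtype.val h'))
    · injection h with h'
      injection h' with h''
      exact Subtype.ext h''
  have h2 : Nat.card Jt + (Nat.card B + Nat.card (cz M z)) ≤ M.index := by
    rw [← Nat.card_sum, ← Nat.card_sum, Subgroup.index]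
    refine Nat.card_le_card_of_injective
      (Sum.elim (fun u : Jt => (QuotientGroup.mk u.1 : G ⧸ M)) (Sum.elim (fun c : B => c.1)
        (fun c : cz M z => QuotientGroup.mk (c : G)))) ?_
    refine Function.Injective.sumElim ?_ (Function.Injective.sumElim Subtype.val_injective ?_ ?_) ?_
    · intro a b heq
      apply Subtype.ext
      rcases eq_or_ne (a : G) (b : G) with e | e
      · exact e
      · exact absurd (hH.mem_normalizer_of_same_coset a.2.1 b.2.1 e (QuotientGroup.eq.1 heq)) a.2.2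
    · intro a b h
      exact Subtype.ext (inv_mul_eq_one.1 (hH.cz_inf (QuotientGroup.eq.1 h)
        ((cz M z).mul_mem ((cz M z).inv_mem a.2) b.2)))
    · intro c d h
      have := c.2.1
      rw [h] at this
      exact hout this (hH.mem_cz.1 d.2).1
    · rintro ⟨u, hu, huN⟩ (c | d) h
      · exact c.2.2 u hu h
      · exact huN (by
          have := mul_mem (hH.mem_cz.1 d.2).1 (hMN (QuotientGroup.eq.1 h.symm))
          rwa [mul_inv_cancel_left] at this)
  refine ⟨by omega, fun g hg => ?_⟩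
  by_contra hno
  push Not at hno
  have hM : ∀ x : M, out (QuotientGroup.mk ((x : G) * g)) ∧
      ∀ u : G, orderOf u = 2 → QuotientGroup.mk u ≠ (QuotientGroup.mk ((x : G) * g) : G ⧸ M) := by
    intro x
    refine ⟨⟨_, rfl, fun h => hg ((Subgroup.mul_mem_cancel_left _ (hMN x.2)).1 h)⟩, fun u hu e => ?_⟩
    have h3 : u⁻¹ * ((x : G) * g) ∈ M := QuotientGroup.eq.1 e
    refine hno _ (M.mul_mem (M.inv_mem h3) x.2) ?_
    rw [show g * ((u⁻¹ * ((x : G) * g))⁻¹ * (x : G)) = (x : G)⁻¹ * u * ((x : G)⁻¹)⁻¹ by group]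
    exact two_conj _ hu
  have hB : Nat.card M ≤ Nat.card B := by
    refine Nat.card_le_card_of_injective (fun x => ⟨_, hM x⟩) fun a b h => ?_
    have h3 : ((a : G) * g)⁻¹ * ((b : G) * g) ∈ M := QuotientGroup.eq.1 (congrArg Subtype.val h)
    by_contra hne
    refine hg ((Subgroup.inv_mem_iff _).1 (hH.mem_normalizer_of_conj_mem (g := g⁻¹)
      (M.mul_mem (M.inv_mem a.2) b.2) (fun e => hne (Subtype.ext (inv_mul_eq_one.1 e))) ?_))
    rw [show g⁻¹ * ((a : G)⁻¹ * b) * g⁻¹⁻¹ = ((a : G) * g)⁻¹ * ((b : G) * g) by group]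
    exact h3
  omega

end Hyp

end Cfsg.Lib.TICount
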