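import Cfsg.Agent.TICount.Common

/-!
The case of at least three fixed points: centralisers of involutions and the fundamental counts.
-/

set_option autoImplicit false
set_option linter.unusedSectionVars false

namespace Cfsg.Lib.TICount

open Subgroup MulAction

universe u v

variable {G : Type u} [Group G] [Finite G] {Ω : Type v} [MulAction G Ω] [IsPretransitive G Ω] [Finite Ω]

/-- An involution with a fixed point. -/
def ZI (Ω : Type v) [MulAction G Ω] (x : G) : Prop := orderOf x = 2 ∧ ∃ a : Ω, x • a = a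

/-- The number of fixed points of the distinguished involution. -/
noncomputable def nfix (Ω : Type v) [MulAction G Ω] (z : G) : ℕ := Nat.card {γ : Ω // z • γ = γ}

namespace Cfg

variable {M : Subgroup G} {z : G} {α : Ω} (hC : Cfg M z α) (hcz : ∀ c ∈ cz M z, c = 1 ∨ c = z)
include hC

theorem nfix_pos : 0 < nfix Ω z := by
  haveI : Nonempty {γ : Ω // z • γ = γ} := ⟨⟨α, hC.z_fix⟩⟩
  exact Nat.card_pos

theorem nfix_eq : nfix Ω z = 1 + Nat.card {γ : Ω // γ ≠ α ∧ z • γ = γ} := by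
  classical
  have e2 : Nat.card ({γ : Ω // γ = α} ⊕ {γ : Ω // γ ≠ α ∧ z • γ = γ}) = nfix Ω z := by
    refine Nat.card_eq_of_bijective (Sum.elim (fun p => ⟨p.1, p.2.symm ▸ hC.z_fix⟩) (fun p => ⟨p.1, p.2.2⟩)) ⟨?_, ?_⟩
    · rintro (⟨p, hp⟩ | ⟨p, hp⟩) (⟨q, hq⟩ | ⟨q, hq⟩) h <;>
        have h' := congrArg Subtype.val h <;> simp only [Sum.elim_inl, Sum.elim_inr] at h'
      · subst h'; rfl
      · exact absurd (h'.symm.trans hp) hq.1
      · exact absurd (h'.trans hq) hp.1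
      · subst h'; rfl
    · rintro ⟨γ, hγ⟩
      by_cases hγα : γ = α
      · exact ⟨Sum.inl ⟨γ, hγα⟩, rfl⟩
      · exact ⟨Sum.inr ⟨γ, hγα, hγ⟩, rfl⟩
  rw [Nat.card_sum, Nat.card_unique] at e2
  exact e2.symm

theorem zi_z : ZI Ω z := ⟨hC.two, α, hC.z_fix⟩

theorem zi_conj {x : G} (g : G) (hx : ZI Ω x) : ZI Ω (g * x * g⁻¹) :=
  let ⟨hx2, a, ha⟩ := hx
  ⟨two_conj g hx2, g • a, by rw [mul_smul, mul_smul, inv_smul_smul, ha]⟩

theorem zi_exists_conj {x : G} (hx : ZI Ω x) : ∃ g : G, g * z * g⁻¹ = x :=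
  let ⟨_, _, ha⟩ := hx
  hC.conj_z_of_fix hx.1 ha

theorem fix_card {x : G} (hx : ZI Ω x) : Nat.card {γ : Ω // x • γ = γ} = nfix Ω z := by
  obtain ⟨g, rfl⟩ := hC.zi_exists_conj hx
  refine (Nat.card_congr ((MulAction.toPerm g).subtypeEquiv fun γ => ?_)).symm
  show z • γ = γ ↔ (g * z * g⁻¹) • g • γ = g • γ
  rw [mul_smul, mul_smul, inv_smul_smul, smul_left_cancel_iff]

theorem eq_of_two_fix {x y : G} (hx : orderOf x = 2) (hy : orderOf y = 2) {a b : Ω} (hab : a ≠ b)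
    (hxa : x • a = a) (hxb : x • b = b) (hya : y • a = a) (hyb : y • b = b) : x = y :=
  hC.eq_of_pair hab hx (mem_pairStab.2 ⟨hxa, hxb⟩) hy (mem_pairStab.2 ⟨hya, hyb⟩)

theorem card_inv_fix (a : Ω) : Nat.card {x : G // orderOf x = 2 ∧ x • a = a} = Nat.card M := by
  obtain ⟨k, hk⟩ := exists_smul_eq G α a
  refine (Nat.card_eq_of_bijective (fun x : M => (⟨k * (z * x) * k⁻¹, two_conj k (hC.z_mul x.2), ?_⟩ :
    {x : G // orderOf x = 2 ∧ x • a = a})) ⟨?_, ?_⟩).symm
  · rw [mul_smul, mul_smul, mul_smul, ← hk, inv_smul_smul, hC.fix_of_mem x.2, hC.z_fix]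
  · intro x y h
    exact Subtype.ext (mul_left_cancel (mul_left_cancel (mul_right_cancel (congrArg Subtype.val h))))
  · rintro ⟨u, hu, hua⟩
    have hN : k⁻¹ * u * k ∈ normalizer (M : Set G) :=
      hC.mem_N.2 (by rw [mul_smul, mul_smul, hk, hua, ← hk, inv_smul_smul])
    have hu' : orderOf (k⁻¹ * u * k) = 2 := by have := two_conj k⁻¹ hu; rwa [inv_inv] at this
    have hmem := M.inv_mem (hC.mul_z_mem hu' hN)
    rw [mul_inv_rev, inv_of_two hC.two, inv_of_two hu'] at hmem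
    refine ⟨⟨_, hmem⟩, Subtype.ext ?_⟩
    show k * (z * (z * (k⁻¹ * u * k))) * k⁻¹ = u
    rw [← mul_assoc z z, mul_self_of_two hC.two, one_mul]
    group

/-- Involutions with fixed points, counted with their fixed points. -/
theorem card_zi_mul : Nat.card {x : G // ZI Ω x} * nfix Ω z = Nat.card Ω * Nat.card M := by
  haveI := Fintype.ofFinite {x : G // ZI Ω x}
  haveI := Fintype.ofFinite Ω
  have e : (Σ x : {x : G // ZI Ω x}, {γ : Ω // x.1 • γ = γ}) ≃ (Σ a : Ω, {x : G // orderOf x = 2 ∧ x • a = a}) :=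
    { toFun := fun p => ⟨p.2.1, ⟨p.1.1, p.1.2.1, p.2.2⟩⟩
      invFun := fun p => ⟨⟨p.2.1, p.2.2.1, p.1, p.2.2.2⟩, ⟨p.1, p.2.2.2⟩⟩
      left_inv := fun p => rfl
      right_inv := fun p => rfl }
  have h := Nat.card_congr e
  simp only [Nat.card_sigma, hC.card_inv_fix, Finset.sum_const, Finset.card_univ, smul_eq_mul,
    ← Nat.card_eq_fintype_card] at h
  rw [← h, Finset.sum_congr rfl fun x _ => hC.fix_card x.2]
  simp [Nat.card_eq_fintype_card]

/-- Moved points of an involution correspond to the pair involutions commuting with it. -/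
theorem card_moved {v : G} (hv : orderOf v = 2) :
    Nat.card {γ : Ω // v • γ ≠ γ} = Nat.card {x : G // ZI Ω x ∧ x ≠ v ∧ Commute v x} * nfix Ω z := by
  have hvv : ∀ γ : Ω, v • v • γ = γ := fun γ => by rw [← mul_smul, mul_self_of_two hv, one_smul]
  haveI := Fintype.ofFinite {x : G // ZI Ω x ∧ x ≠ v ∧ Commute v x}
  have hmove : ∀ {x : G}, ZI Ω x → x ≠ v → Commute v x → ∀ γ : Ω, x • γ = γ → v • γ ≠ γ := fun hx hne hc γ hγ h =>
    hne (hC.eq_of_commute_fix hx.1 hγ hv h hc.symm.eq)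
  have hfix' : ∀ {x : G}, Commute v x → ∀ γ : Ω, x • γ = γ → x • v • γ = v • γ := fun hc γ hγ => by
    rw [← mul_smul, ← hc.eq, mul_smul, hγ]
  have hcard : Nat.card (Σ x : {x : G // ZI Ω x ∧ x ≠ v ∧ Commute v x}, {γ : Ω // x.1 • γ = γ}) =
      Nat.card {γ : Ω // v • γ ≠ γ} := by
    refine Nat.card_eq_of_bijective (fun p => ⟨p.2.1, hmove p.1.2.1 p.1.2.2.1 p.1.2.2.2 _ p.2.2⟩) ⟨?_, ?_⟩
    · rintro ⟨⟨x, hx, hxv, hxc⟩, ⟨γ, hγ⟩⟩ ⟨⟨y, hy, hyv, hyc⟩, ⟨δ, hδ⟩⟩ h
      have h' : γ = δ := congrArg Subtype.val h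
      subst h'
      have hxy : x = y := hC.eq_of_two_fix hx.1 hy.1 (Ne.symm (hmove hx hxv hxc γ hγ)) hγ
        (hfix' hxc γ hγ) hδ (hfix' hyc γ hδ)
      subst hxy
      rfl
    · rintro ⟨γ, hγ⟩
      obtain ⟨w, hw, hwp⟩ := hC.exists_pair_invol (Ne.symm hγ)
      have hc := hC.swap_inverts (Ne.symm hγ) rfl (hvv γ) hwp
      rw [inv_of_two hw, mul_inv_eq_iff_eq_mul] at hc
      obtain ⟨hwγ, -⟩ := mem_pairStab.1 hwp
      refine ⟨⟨⟨w, ⟨hw, γ, hwγ⟩, ?_, hc⟩, ⟨γ, hwγ⟩⟩, rfl⟩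
      rintro rfl
      exact hγ hwγ
  rw [← hcard, Nat.card_sigma, Finset.sum_congr rfl fun x _ => hC.fix_card x.2.1]
  simp [Nat.card_eq_fintype_card]

theorem card_fixfree {v : G} (hv : orderOf v = 2) (hf : ∀ γ : Ω, v • γ ≠ γ) :
    Nat.card Ω = Nat.card {x : G // ZI Ω x ∧ Commute v x} * nfix Ω z := by
  have e1 : Nat.card {γ : Ω // v • γ ≠ γ} = Nat.card Ω := Nat.card_congr (Equiv.subtypeUnivEquiv hf)
  rw [← e1, hC.card_moved hv]
  congr 1
  refine Nat.card_congr (Equiv.subtypeEquivRight fun x => ⟨fun h => ⟨h.1, h.2.2⟩, fun h => ⟨h.1, ?_, h.2⟩⟩)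
  rintro rfl
  obtain ⟨-, a, ha⟩ := h.1
  exact hf a ha

theorem card_block {y : G} (hy : ZI Ω y) :
    Nat.card Ω = Nat.card {x : G // ZI Ω x ∧ Commute y x} * nfix Ω z := by
  classical
  have e0 : Nat.card ({γ : Ω // y • γ = γ} ⊕ {γ : Ω // ¬ y • γ = γ}) = Nat.card Ω :=
    Nat.card_congr (Equiv.sumCompl fun γ : Ω => y • γ = γ)
  rw [← e0, Nat.card_sum, hC.fix_card hy, hC.card_moved hy.1]
  have e1 : Nat.card ({x : G // x = y} ⊕ {x : G // ZI Ω x ∧ x ≠ y ∧ Commute y x}) =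
      Nat.card {x : G // ZI Ω x ∧ Commute y x} := by
    refine Nat.card_eq_of_bijective
      (Sum.elim (fun p => ⟨p.1, p.2.symm ▸ ⟨hy, Commute.refl y⟩⟩) (fun p => ⟨p.1, p.2.1, p.2.2.2⟩)) ⟨?_, ?_⟩
    · rintro (⟨p, hp⟩ | ⟨p, hp⟩) (⟨q, hq⟩ | ⟨q, hq⟩) h <;>
        have h' := congrArg Subtype.val h <;> simp only [Sum.elim_inl, Sum.elim_inr] at h'
      · subst h'; rfl
      · exact absurd (h'.symm.trans hp) hq.2.1
      · exact absurd (h'.trans hq) hp.2.1
      · subst h'; rfl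
    · rintro ⟨x, hx⟩
      by_cases hxy : x = y
      · exact ⟨Sum.inl ⟨x, hxy⟩, rfl⟩
      · exact ⟨Sum.inr ⟨x, hx.1, hxy, hx.2⟩, rfl⟩
  rw [← e1, Nat.card_sum, show Nat.card {x : G // x = y} = 1 from Nat.card_unique]
  ring

section Cent

include hcz

theorem cent_invol {g : G} (hg : g * z = z * g) : g * g = 1 := by
  by_cases hgα : g • α = α
  · rcases hcz g (hC.mem_cz.2 ⟨hC.mem_N.2 hgα, hg⟩) with rfl | rfl
    · exact one_mul 1
    · exact mul_self_of_two hC.two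
  · have hzβ : z • g • α = g • α := by rw [← mul_smul, ← hg, mul_smul, hC.z_fix]
    obtain ⟨v, hv, v1, v2⟩ := hC.exists_swap (Ne.symm hgα)
    have hvz := hC.swap_inverts (Ne.symm hgα) v1 v2 (mem_pairStab.2 ⟨hC.z_fix, hzβ⟩)
    rw [inv_of_two hC.two, mul_inv_eq_iff_eq_mul] at hvz
    have hc : v * g ∈ cz M z := by
      refine hC.mem_cz.2 ⟨hC.mem_N.2 (by rw [mul_smul, v2]), ?_⟩
      rw [mul_assoc, hg, ← mul_assoc, hvz, mul_assoc]
    have hge : g = v * (v * g) := by rw [← mul_assoc, mul_self_of_two hv, one_mul]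
    rcases hcz _ hc with h | h <;> rw [h] at hge <;> rw [hge]
    · rw [mul_one, mul_self_of_two hv]
    · rw [show v * z * (v * z) = v * (z * v) * z by group, ← hvz, show v * (v * z) * z = (v * v) * (z * z) by group,
        mul_self_of_two hv, mul_self_of_two hC.two, one_mul]

theorem cent_sq {x g : G} (hx : ZI Ω x) (hg : g * x = x * g) : g * g = 1 := by
  obtain ⟨k, rfl⟩ := hC.zi_exists_conj hx
  have h1 : (k⁻¹ * g * k) * z = z * (k⁻¹ * g * k) := by
    calc k⁻¹ * g * k * z = k⁻¹ * (g * (k * z * k⁻¹)) * k := by group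
      _ = _ := by rw [hg]; group
  have h2 := hC.cent_invol hcz h1
  rw [show g * g = k * (k⁻¹ * g * k * (k⁻¹ * g * k)) * k⁻¹ by group, h2]
  group

theorem cent_comm {x g g' : G} (hx : ZI Ω x) (hg : g * x = x * g) (hg' : g' * x = x * g') : g * g' = g' * g := by
  have h3 := hC.cent_sq hcz hx (g := g * g') (by rw [mul_assoc, hg', ← mul_assoc, hg, mul_assoc])
  have e1 := inv_eq_of_mul_eq_one_right (hC.cent_sq hcz hx hg)
  have e2 := inv_eq_of_mul_eq_one_right (hC.cent_sq hcz hx hg')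
  rw [← inv_eq_of_mul_eq_one_right h3, mul_inv_rev, e1, e2]

theorem cent_card {x : G} (hx : ZI Ω x) : Nat.card (centralizer ({x} : Set G)) = 2 * nfix Ω z := by
  obtain ⟨k, rfl⟩ := hC.zi_exists_conj hx
  have e0 : Nat.card (centralizer ({k * z * k⁻¹} : Set G)) = Nat.card (centralizer ({z} : Set G)) := by
    refine (Nat.card_congr ((MulAut.conj k).toEquiv.subtypeEquiv fun g => ?_)).symm
    rw [mem_centralizer_singleton_iff, mem_centralizer_singleton_iff]
    show g * z = z * g ↔ k * g * k⁻¹ * (k * z * k⁻¹) = k * z * k⁻¹ * (k * g * k⁻¹)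
    rw [show k * g * k⁻¹ * (k * z * k⁻¹) = k * (g * z) * k⁻¹ by group,
      show k * z * k⁻¹ * (k * g * k⁻¹) = k * (z * g) * k⁻¹ by group]
    exact ⟨fun h => by rw [h], fun h => mul_left_cancel (mul_right_cancel h)⟩
  rw [e0]
  have hmem : ∀ {g : G}, g ∈ centralizer ({z} : Set G) ↔ g * z = z * g := mem_centralizer_singleton_iff
  have hs : ∀ γ : {γ : Ω // z • γ = γ}, ∃ v : centralizer ({z} : Set G), (v : G) • α = γ.1 := by
    rintro ⟨γ, hγ⟩
    by_cases hγα : γ = α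
    · exact ⟨1, by rw [OneMemClass.coe_one, one_smul]; exact hγα.symm⟩
    obtain ⟨v, hv, v1, v2⟩ := hC.exists_swap (Ne.symm hγα)
    have hvz := hC.swap_inverts (Ne.symm hγα) v1 v2 (mem_pairStab.2 ⟨hC.z_fix, hγ⟩)
    rw [inv_of_two hC.two, mul_inv_eq_iff_eq_mul] at hvz
    exact ⟨⟨v, hmem.2 hvz⟩, v1⟩
  choose s hs using hs
  rw [show 2 * nfix Ω z = Nat.card (Bool × {γ : Ω // z • γ = γ}) by rw [Nat.card_prod, Nat.card_eq_fintype_card (α := Bool), Fintype.card_bool, nfix]]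
  refine (Nat.card_eq_of_bijective (fun p => (⟨(s p.2 : G) * (bif p.1 then z else 1), ?_⟩ :
    centralizer ({z} : Set G))) ⟨?_, ?_⟩).symm
  · refine mul_mem (s p.2).2 ?_
    cases p.1
    · exact one_mem _
    · exact hmem.2 rfl
  · rintro ⟨b, γ⟩ ⟨b', δ⟩ h
    have h' : (s γ : G) * (bif b then z else 1) = (s δ : G) * (bif b' then z else 1) := congrArg Subtype.val h
    have hfix : ∀ b : Bool, (bif b then z else 1 : G) • α = α := by
      intro b; cases b
      · exact one_smul G α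
      · exact hC.z_fix
    have hγδ : γ = δ := Subtype.ext (by
      have := congrArg (· • α) h'
      simp only [mul_smul, hfix] at this
      rwa [hs, hs] at this)
    subst hγδ
    have h2 := mul_left_cancel h'
    have hz1 : z ≠ 1 := fun e => by simpa [e] using hC.two
    cases b <;> cases b' <;> first | rfl | exact absurd h2 hz1 | exact absurd h2.symm hz1
  · rintro ⟨g, hg⟩
    have hgf : z • g • α = g • α := by rw [← mul_smul, ← hmem.1 hg, mul_smul, hC.z_fix]
    have hc : (s ⟨g • α, hgf⟩ : G)⁻¹ * g ∈ cz M z := by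
      refine hC.mem_cz.2 ⟨hC.mem_N.2 ?_, hmem.1 (mul_mem (inv_mem (s _).2) hg)⟩
      rw [mul_smul, inv_smul_eq_iff, hs]
    rcases hcz _ hc with h | h
    · exact ⟨⟨false, ⟨g • α, hgf⟩⟩, Subtype.ext (by simpa using (inv_mul_eq_iff_eq_mul.1 h).symm)⟩
    · exact ⟨⟨true, ⟨g • α, hgf⟩⟩, Subtype.ext (by simpa using (inv_mul_eq_iff_eq_mul.1 h).symm)⟩

/-- The two possible numerical patterns. -/
theorem arith (h3 : 3 ≤ nfix Ω z) :
    (∃ d, 1 ≤ d ∧ nfix Ω z = 2 ^ d) ∧
    ((Nat.card M = nfix Ω z + 1 ∧ Nat.card Ω = nfix Ω z * nfix Ω z) ∨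
      (Nat.card M = 2 * nfix Ω z + 1 ∧ Nat.card Ω = nfix Ω z * (2 * nfix Ω z - 1) ∧
        ∀ g : G, g ≠ 1 → g * z = z * g → ∃ a : Ω, g • a = a)) := by
  haveI : Fact (Nat.Prime 2) := ⟨Nat.prime_two⟩
  have hP : IsPGroup 2 (centralizer ({z} : Set G)) := fun g =>
    ⟨1, Subtype.ext (by simpa [pow_two] using hC.cent_invol hcz (mem_centralizer_singleton_iff.1 g.2))⟩
  obtain ⟨e, he⟩ := IsPGroup.iff_card.1 hP
  rw [hC.cent_card hcz hC.zi_z] at he
  have he1 : 2 ≤ e := by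
    by_contra h
    have : 2 ^ e ≤ 2 ^ 1 := Nat.pow_le_pow_right (by norm_num) (by omega)
    omega
  refine ⟨⟨e - 1, by omega, ?_⟩, ?_⟩
  · have : 2 ^ e = 2 * 2 ^ (e - 1) := by rw [← pow_succ', Nat.sub_add_cancel (by omega)]
    omega
  set f := nfix Ω z with hf
  set m := Nat.card M with hm
  set S := {x : G // ZI Ω x ∧ Commute z x} with hS
  have hle : Nat.card S + 1 ≤ 2 * f := by
    rw [← hC.cent_card hcz hC.zi_z, ← Finite.card_option]
    refine Nat.card_le_card_of_injective (fun o => o.elim 1 fun x => ⟨x.1, mem_centralizer_singleton_iff.2 x.2.2.eq.symm⟩) ?_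
    rintro (_ | x) (_ | y) h
    · rfl
    · have h' : (1 : G) = y.1 := congrArg Subtype.val h
      exact absurd y.2.1.1 (by rw [← h', orderOf_one]; omega)
    · have h' : x.1 = (1 : G) := congrArg Subtype.val h
      exact absurd x.2.1.1 (by rw [h', orderOf_one]; omega)
    · have h' : x.1 = y.1 := congrArg (fun t : centralizer ({z} : Set G) => (t : G)) h
      exact congrArg some (Subtype.ext h')
  have hn := hC.card_block hC.zi_z
  rw [← hf, ← hS] at hn
  have hp := hC.card_points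
  have hk := hC.nfix_eq
  rw [← hf] at hk
  rw [← hm] at hp
  have hm3 : 3 ≤ m := hC.three_le
  set c := Nat.card S
  set k := Nat.card {γ : Ω // γ ≠ α ∧ z • γ = γ}
  have hkey : c * f + m = 1 + m * f := by rw [← hn, hp, hk]; ring
  have hcm : c < m := by
    by_contra h
    have := Nat.mul_le_mul_right f (not_lt.1 h)
    omega
  obtain ⟨j, hj⟩ : ∃ j, m = c + j := ⟨m - c, by omega⟩
  have hkey2 : m = 1 + j * f := by
    rw [hj] at hkey ⊢
    rw [add_mul] at hkey
    omega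
  have hj0 : j ≠ 0 := by rintro rfl; omega
  have hj2 : j ≤ 2 := by
    by_contra h
    have : 3 * f ≤ j * f := Nat.mul_le_mul_right f (by omega)
    nlinarith
  rcases (show j = 1 ∨ j = 2 by omega) with rfl | rfl
  · left
    have hce : c = f := by omega
    exact ⟨by omega, by rw [hn, hce]⟩
  · right
    have hce : c = 2 * f - 1 := by omega
    refine ⟨by omega, by rw [hn, hce, mul_comm], fun g hg1 hg => ?_⟩
    by_contra hno
    push Not at hno
    have hg2 := two_of_mul_self (hC.cent_invol hcz hg) hg1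
    have hle2 : c + 2 ≤ 2 * f := by
      rw [← hC.cent_card hcz hC.zi_z, ← Nat.card_eq_fintype_card (α := Fin 2) |>.trans (Fintype.card_fin 2), ← Nat.card_sum]
      refine Nat.card_le_card_of_injective (Sum.elim (fun x : S => ⟨x.1, mem_centralizer_singleton_iff.2 x.2.2.eq.symm⟩)
        (![1, ⟨g, mem_centralizer_singleton_iff.2 hg⟩])) ?_
      refine Function.Injective.sumElim ?_ ?_ ?_
      · intro a b h; exact Subtype.ext (congrArg (fun x : centralizer ({z} : Set G) => (x : G)) h)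
      · intro a b h
        fin_cases a <;> fin_cases b <;> simp [Subtype.ext_iff] at h ⊢ <;> first | exact hg1 h | exact hg1 h.symm
      · intro a b h
        have h' := congrArg Subtype.val h
        fin_cases b <;> simp at h'
        · have := a.2.1.1
          rw [h', orderOf_one] at this
          omega
        · obtain ⟨γ, hγ⟩ := a.2.1.2
          rw [h'] at hγ
          exact hno γ hγ
    omega

end Cent

end Cfg

end Cfsg.Lib.TICount
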