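import Cfsg.Agent.TICount.Basic

/-!
The action on the conjugates of the trivial intersection subgroup: two-point stabilisers and fixed points.
-/

set_option autoImplicit false
set_option linter.unusedSectionVars false

namespace Cfsg.Lib.TICount

open Subgroup MulAction

universe u v

variable {G : Type u} [Group G] [Finite G] {Ω : Type v} [MulAction G Ω] [IsPretransitive G Ω] [Finite Ω]

/-- A point whose stabiliser is the normaliser, every coset outside which contains an involution. -/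
structure Cfg (M : Subgroup G) (z : G) (α : Ω) : Prop extends Hyp M z where
  stab : stabilizer G α = normalizer (M : Set G)
  cover : ∀ g : G, g ∉ normalizer (M : Set G) → ∃ x ∈ M, orderOf (g * x) = 2

/-- The two-point stabiliser. -/
abbrev pairStab (G : Type u) [Group G] {Ω : Type v} [MulAction G Ω] (a b : Ω) : Subgroup G :=
  stabilizer G a ⊓ stabilizer G b

theorem mem_pairStab {g : G} {a b : Ω} : g ∈ pairStab G a b ↔ g • a = a ∧ g • b = b := by
  rw [Subgroup.mem_inf, mem_stabilizer_iff, mem_stabilizer_iff]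

theorem pairStab_conj {g d : G} {a b : Ω} (hd : d ∈ pairStab G a b) :
    g * d * g⁻¹ ∈ pairStab G (g • a) (g • b) := by
  rw [mem_pairStab] at hd ⊢
  simp [mul_smul, hd.1, hd.2]

theorem pairStab_conj' {g d : G} {a b : Ω} (hd : d ∈ pairStab G (g • a) (g • b)) :
    g⁻¹ * d * g ∈ pairStab G a b := by
  rw [mem_pairStab] at hd ⊢
  simp [mul_smul, hd.1, hd.2]

namespace Cfg

variable {M : Subgroup G} {z : G} {α : Ω} (hC : Cfg M z α)
include hC

theorem mem_N {g : G} : g ∈ normalizer (M : Set G) ↔ g • α = α := by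
  rw [← hC.stab, mem_stabilizer_iff]

theorem fix_of_mem {x : G} (hx : x ∈ M) : x • α = α := hC.mem_N.1 (le_normalizer hx)

theorem z_fix : z • α = α := hC.mem_N.1 hC.znorm

theorem cz_fix {c : G} (hc : c ∈ cz M z) : c • α = α := hC.mem_N.1 (hC.mem_cz.1 hc).1

theorem exists_invol_map {β : Ω} (hβ : β ≠ α) : ∃ u : G, orderOf u = 2 ∧ u • α = β := by
  obtain ⟨g, hg⟩ := exists_smul_eq G α β
  have hgN : g ∉ normalizer (M : Set G) := fun h => hβ (by rw [← hg, hC.mem_N.1 h])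
  obtain ⟨x, hx, ho⟩ := hC.cover g hgN
  exact ⟨g * x, ho, by rw [mul_smul, hC.fix_of_mem hx, hg]⟩

theorem semiregular {x : G} (hx : x ∈ M) {β : Ω} (hβ : β ≠ α) (hfix : x • β = β) : x = 1 := by
  by_contra hx1
  obtain ⟨u, hu, hu1⟩ := hC.exists_invol_map hβ
  have huN : u ∉ normalizer (M : Set G) := fun h => hβ (by rw [← hu1, hC.mem_N.1 h])
  have hui := inv_of_two hu
  set y := u * x * u⁻¹ with hy
  have hyN : y ∈ normalizer (M : Set G) := by
    rw [hC.mem_N, hy, mul_smul, mul_smul]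
    nth_rewrite 1 [hui]
    rw [hu1, hfix, ← hu1, ← mul_smul, mul_self_of_two hu, one_smul]
  have huz : u * z ∉ normalizer (M : Set G) := fun h => huN ((Subgroup.mul_mem_cancel_right _ hC.znorm).1 h)
  obtain ⟨a, ha, hv⟩ := hC.cover (u * z) huz
  have hd := hC.z_mul ha
  have hcd : u * (z * a) = z * a * u := by
    have h1 := mul_self_of_two hv
    rw [mul_assoc u z a] at h1
    have h2 := eq_inv_of_mul_eq_one_left h1
    rw [mul_inv_rev, inv_of_two hd, hui] at h2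
    exact h2
  have hdx := hC.inverts hd (mul_mem hC.znorm (le_normalizer ha)) hx
  have hdy : z * a * y * (z * a)⁻¹ = y⁻¹ := by
    rw [hy]
    calc z * a * (u * x * u⁻¹) * (z * a)⁻¹ = (z * a * u) * x * (z * a * u)⁻¹ := by group
      _ = u * (z * a * x * (z * a)⁻¹) * u⁻¹ := by rw [← hcd]; group
      _ = _ := by rw [hdx]; group
  obtain ⟨b, hb, c, hc, hbc⟩ := hC.exists_decomp hyN
  obtain ⟨hcN, hcz⟩ := hC.mem_cz.1 hc
  have hnorm : ∀ {g p : G}, g ∈ normalizer (M : Set G) → p ∈ M → g * p * g⁻¹ ∈ M := fun hg hp =>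
    (mem_normalizer_iff.1 hg _).1 hp
  have hy2 : y * y ∈ M := by
    -- modulo `M` the element `c` is inverted and centralised
    have hc2 : c * c ∈ M := by
      have e : (z * a) * c * (z * a)⁻¹ * c⁻¹ ∈ M := by
        have ht : z * (a * (c * a⁻¹ * c⁻¹)) * z⁻¹ ∈ M := hnorm hC.znorm (M.mul_mem ha (hnorm hcN (M.inv_mem ha)))
        have hzc : z⁻¹ * c = c * z⁻¹ := by
          rw [inv_of_two hC.two]; exact hcz.symm
        have heq : z * a * c * (z * a)⁻¹ * c⁻¹ = z * (a * (c * a⁻¹ * c⁻¹)) * z⁻¹ := by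
          calc z * a * c * (z * a)⁻¹ * c⁻¹ = z * (a * (c * a⁻¹ * c⁻¹)) * (c * z⁻¹) * c⁻¹ := by group
            _ = z * (a * (c * a⁻¹ * c⁻¹)) * z⁻¹ := by rw [← hzc]; group
        rw [heq]; exact ht
      have e2 : (z * a) * c * (z * a)⁻¹ * c ∈ M := by
        have h3 : (z * a) * c * (z * a)⁻¹ = ((z * a) * b * (z * a)⁻¹)⁻¹ * (c⁻¹ * b⁻¹ * c) * c⁻¹ := by
          have h4 : (z * a) * b * (z * a)⁻¹ * ((z * a) * c * (z * a)⁻¹) = c⁻¹ * b⁻¹ := by
            rw [← mul_inv_rev, hbc, ← hdy, ← hbc]; group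
          rw [eq_inv_mul_of_mul_eq h4]; group
        rw [h3, inv_mul_cancel_right]
        refine M.mul_mem (M.inv_mem (hnorm (mul_mem hC.znorm (le_normalizer ha)) hb)) ?_
        have := hnorm (inv_mem hcN) (M.inv_mem hb)
        rwa [inv_inv] at this
      have e3 := M.mul_mem (M.inv_mem e) e2
      rwa [mul_inv_rev, inv_inv, mul_assoc, inv_mul_cancel_left] at e3
    rw [← hbc, show b * c * (b * c) = b * (c * b * c⁻¹) * (c * c) by group]
    exact M.mul_mem (M.mul_mem hb (hnorm hcN hb)) hc2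
  refine huN (hC.mem_normalizer_of_conj_mem (M.mul_mem hx hx) (fun h => hx1 (hC.eq_one_of_two hx h)) ?_)
  rw [show u * (x * x) * u⁻¹ = y * y by rw [hy]; group]
  exact hy2

theorem D_inj {β : Ω} (hβ : β ≠ α) {a b : G} (ha : a ∈ pairStab G α β) (hb : b ∈ pairStab G α β)
    (h : a⁻¹ * b ∈ M) : a = b := by
  have h1 := mem_pairStab.1 ((pairStab G α β).mul_mem ((pairStab G α β).inv_mem ha) hb)
  exact inv_mul_eq_one.1 (hC.semiregular h hβ h1.2)

theorem exists_lift {β : Ω} {u : G} (hu : orderOf u = 2) (hu1 : u • α = β) (hβ : β ≠ α) {c : G}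
    (hc : c ∈ cz M z) : ∃ x ∈ M, c * x ∈ pairStab G α β ∧ orderOf (u * (c * x)) = 2 := by
  have hcN := (hC.mem_cz.1 hc).1
  obtain ⟨x, hx, hv⟩ := hC.cover (u * c) (fun h => hβ (by
    rw [← hu1, hC.mem_N.1 ((Subgroup.mul_mem_cancel_right _ hcN).1 h)]))
  rw [mul_assoc] at hv
  have hd : (c * x) • α = α := by rw [mul_smul, hC.fix_of_mem hx, hC.cz_fix hc]
  refine ⟨x, hx, mem_pairStab.2 ⟨hd, ?_⟩, hv⟩
  have h1 : (u * (c * x)) • α = β := by rw [mul_smul, hd, hu1]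
  have h2 : (u * (c * x)) • β = α := by rw [← h1, ← mul_smul, mul_self_of_two hv, one_smul]
  rw [mul_smul, ← inv_of_two hu, inv_smul_eq_iff, hu1] at h2
  exact h2

theorem mul_two_of_mem {β : Ω} (hβ : β ≠ α) {u : G} (hu : orderOf u = 2) (hu1 : u • α = β) {d : G}
    (hd : d ∈ pairStab G α β) : orderOf (u * d) = 2 := by
  obtain ⟨a, ha, c, hc, e⟩ := hC.exists_decomp (hC.mem_N.2 (mem_pairStab.1 hd).1)
  obtain ⟨x, hx, hcx, hv⟩ := hC.exists_lift hu hu1 hβ hc
  have hd' : c * x = d := by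
    refine hC.D_inj hβ hcx hd ?_
    rw [← e, show (c * x)⁻¹ * (a * c) = x⁻¹ * (c⁻¹ * a * c) by group]
    refine M.mul_mem (M.inv_mem hx) ?_
    have := (mem_normalizer_iff.1 (inv_mem (hC.mem_cz.1 hc).1) a).1 ha
    rwa [inv_inv] at this
  rwa [← hd']

theorem card_pairStab {β : Ω} (hβ : β ≠ α) : Nat.card (pairStab G α β) = Nat.card (cz M z) := by
  obtain ⟨u, hu, hu1⟩ := hC.exists_invol_map hβ
  choose f hf hf1 hf2 using fun c : cz M z => hC.exists_lift hu hu1 hβ c.2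
  refine (Nat.card_eq_of_bijective (fun c : cz M z => (⟨c * f c, hf1 c⟩ : pairStab G α β)) ⟨?_, ?_⟩).symm
  · intro a b h
    have h' : (a : G) * f a = b * f b := congrArg Subtype.val h
    have h1 : (b : G)⁻¹ * a = f b * (f a)⁻¹ := by
      calc (b : G)⁻¹ * a = (b : G)⁻¹ * ((a : G) * f a) * (f a)⁻¹ := by group
        _ = _ := by rw [h']; group
    have h2 : (b : G)⁻¹ * a ∈ M := h1 ▸ M.mul_mem (hf b) (M.inv_mem (hf a))
    exact Subtype.ext (inv_mul_eq_one.1 (hC.cz_inf h2 ((cz M z).mul_mem ((cz M z).inv_mem b.2) a.2))).symm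
  · rintro ⟨d, hd⟩
    obtain ⟨a, ha, c, hc, e⟩ := hC.exists_decomp (hC.mem_N.2 (mem_pairStab.1 hd).1)
    refine ⟨⟨c, hc⟩, Subtype.ext ?_⟩
    refine hC.D_inj hβ (hf1 ⟨c, hc⟩) hd ?_
    show ((c : G) * f ⟨c, hc⟩)⁻¹ * d ∈ M
    rw [← e, show (c * f ⟨c, hc⟩)⁻¹ * (a * c) = (f ⟨c, hc⟩)⁻¹ * (c⁻¹ * a * c) by group]
    refine M.mul_mem (M.inv_mem (hf _)) ?_
    have := (mem_normalizer_iff.1 (inv_mem (hC.mem_cz.1 hc).1) a).1 ha
    rwa [inv_inv] at this

theorem swap_two {a b : Ω} (hab : a ≠ b) {g : G} (h1 : g • a = b) (h2 : g • b = a) : orderOf g = 2 := by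
  obtain ⟨k, hk⟩ := exists_smul_eq G α a
  have hga : (k⁻¹ * g * k) • α = k⁻¹ • b := by rw [mul_smul, mul_smul, hk, h1]
  have hgb : (k⁻¹ * g * k) • (k⁻¹ • b) = α := by
    rw [mul_smul, mul_smul, smul_inv_smul, h2, ← hk, inv_smul_smul]
  have hne : k⁻¹ • b ≠ α := fun e => hab (by rw [← hk, ← e, smul_inv_smul])
  obtain ⟨u, hu, hu1⟩ := hC.exists_invol_map hne
  have hd : u * (k⁻¹ * g * k) ∈ pairStab G α (k⁻¹ • b) := by
    rw [mem_pairStab]
    constructor
    · rw [mul_smul, hga, ← hu1, ← mul_smul, mul_self_of_two hu, one_smul]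
    · rw [mul_smul, hgb, hu1]
  have h3 := hC.mul_two_of_mem hne hu hu1 hd
  rw [← mul_assoc, mul_self_of_two hu, one_mul] at h3
  have h4 := two_conj k h3
  rwa [show k * (k⁻¹ * g * k) * k⁻¹ = g by group] at h4

theorem swap_inverts {a b : Ω} (hab : a ≠ b) {g : G} (h1 : g • a = b) (h2 : g • b = a) {d : G}
    (hd : d ∈ pairStab G a b) : g * d * g⁻¹ = d⁻¹ := by
  obtain ⟨hda, hdb⟩ := mem_pairStab.1 hd
  have hgd := hC.swap_two hab (g := g * d) (by rw [mul_smul, hda, h1]) (by rw [mul_smul, hdb, h2])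
  have h := mul_self_of_two hgd
  rw [inv_of_two (hC.swap_two hab h1 h2), eq_inv_iff_mul_eq_one]
  rw [mul_assoc] at h ⊢
  rw [← h]; group

theorem exists_swap {a b : Ω} (hab : a ≠ b) : ∃ g : G, orderOf g = 2 ∧ g • a = b ∧ g • b = a := by
  obtain ⟨k, hk⟩ := exists_smul_eq G α a
  have hne : k⁻¹ • b ≠ α := fun e => hab (by rw [← hk, ← e, smul_inv_smul])
  obtain ⟨u, hu, hu1⟩ := hC.exists_invol_map hne
  have hu2 : u • k⁻¹ • b = α := by rw [← hu1, ← mul_smul, mul_self_of_two hu, one_smul]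
  exact ⟨k * u * k⁻¹, two_conj k hu, by rw [mul_smul, mul_smul, ← hk, inv_smul_smul, hu1, smul_inv_smul],
    by rw [mul_smul, mul_smul, hu2, hk]⟩

theorem pairStab_comm {a b : Ω} (hab : a ≠ b) {d d' : G} (hd : d ∈ pairStab G a b)
    (hd' : d' ∈ pairStab G a b) : d * d' = d' * d := by
  obtain ⟨g, -, h1, h2⟩ := hC.exists_swap hab
  have e := hC.swap_inverts hab h1 h2 ((pairStab G a b).mul_mem hd hd')
  rw [show g * (d * d') * g⁻¹ = (g * d * g⁻¹) * (g * d' * g⁻¹) by group, hC.swap_inverts hab h1 h2 hd,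
    hC.swap_inverts hab h1 h2 hd', ← mul_inv_rev, inv_inj] at e
  exact e.symm

theorem eq_of_commute_fix {a : Ω} {u v : G} (hu : orderOf u = 2) (hua : u • a = a) (hv : orderOf v = 2)
    (hva : v • a = a) (h : u * v = v * u) : u = v := by
  obtain ⟨k, hk⟩ := exists_smul_eq G α a
  have hN : ∀ {w : G}, w • a = a → k⁻¹ * w * k ∈ normalizer (M : Set G) := fun {w} hw =>
    hC.mem_N.2 (by rw [mul_smul, mul_smul, hk, hw, ← hk, inv_smul_smul])
  have hc : ∀ {w : G}, orderOf w = 2 → orderOf (k⁻¹ * w * k) = 2 := fun {w} hw => by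
    have := two_conj k⁻¹ hw; rwa [inv_inv] at this
  have e := hC.eq_of_commute (hc hu) (hN hua) (hc hv) (hN hva)
    (by rw [show k⁻¹ * u * k * (k⁻¹ * v * k) = k⁻¹ * (u * v) * k by group, h]; group)
  exact mul_left_cancel (mul_right_cancel e)

theorem eq_of_pair {a b : Ω} (hab : a ≠ b) {u v : G} (hu : orderOf u = 2) (hua : u ∈ pairStab G a b)
    (hv : orderOf v = 2) (hva : v ∈ pairStab G a b) : u = v :=
  hC.eq_of_commute_fix hu (mem_pairStab.1 hua).1 hv (mem_pairStab.1 hva).1 (hC.pairStab_comm hab hua hva)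

theorem conj_z_of_fix {a : Ω} {v : G} (hv : orderOf v = 2) (hva : v • a = a) : ∃ g : G, g * z * g⁻¹ = v := by
  obtain ⟨k, hk⟩ := exists_smul_eq G α a
  have hvN : k⁻¹ * v * k ∈ normalizer (M : Set G) :=
    hC.mem_N.2 (by rw [mul_smul, mul_smul, hk, hva, ← hk, inv_smul_smul])
  have hvo : orderOf (k⁻¹ * v * k) = 2 := by have := two_conj k⁻¹ hv; rwa [inv_inv] at this
  obtain ⟨x, hx, hxa⟩ := hC.exists_sqrt (hC.mul_z_mem hvo hvN)
  refine ⟨k * x, ?_⟩
  have h2 : x * z * x⁻¹ = x * x * z := by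
    have h := hC.conj_z (M.inv_mem hx)
    rw [inv_inv] at h
    have hz := mul_self_of_two hC.two
    calc x * z * x⁻¹ = x * (z * x⁻¹ * z) * z := by
          rw [mul_assoc x (z * x⁻¹ * z) z, mul_assoc (z * x⁻¹) z z, hz, mul_one, ← mul_assoc]
      _ = x * x * z := by rw [h]
  rw [mul_inv_rev, show k * x * z * (x⁻¹ * k⁻¹) = k * (x * z * x⁻¹) * k⁻¹ by group, h2, hxa,
    mul_assoc _ z z, mul_self_of_two hC.two, mul_one]
  group

theorem exists_pair_invol {a b : Ω} (hab : a ≠ b) : ∃ w : G, orderOf w = 2 ∧ w ∈ pairStab G a b := by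
  obtain ⟨k, hk⟩ := exists_smul_eq G α a
  have hne : k⁻¹ • b ≠ α := fun e => hab (by rw [← hk, ← e, smul_inv_smul])
  obtain ⟨u, hu, hu1⟩ := hC.exists_invol_map hne
  obtain ⟨x, hx, hd, -⟩ := hC.exists_lift hu hu1 hne hC.z_mem_cz
  refine ⟨k * (z * x) * k⁻¹, two_conj k (hC.z_mul hx), ?_⟩
  have := pairStab_conj (g := k) hd
  rwa [hk, smul_inv_smul] at this

theorem cz_eq {β : Ω} (hβ : β ≠ α) (hz : z • β = β) : cz M z = pairStab G α β := by
  refine (Subgroup.eq_of_le_of_card_ge ?_ (hC.card_pairStab hβ).ge).symm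
  intro d hd
  have hzD : z ∈ pairStab G α β := mem_pairStab.2 ⟨hC.z_fix, hz⟩
  exact hC.mem_cz.2 ⟨hC.mem_N.2 (mem_pairStab.1 hd).1, hC.pairStab_comm (Ne.symm hβ) hd hzD⟩

theorem smul_ne {x : G} (hx : x ∈ M) {β : Ω} (hβ : β ≠ α) : x • β ≠ α := fun e =>
  hβ (smul_left_cancel x (e.trans (hC.fix_of_mem hx).symm))

theorem exists_fixed_translate {β : Ω} (hβ : β ≠ α) : ∃ x ∈ M, z • x • β = x • β := by
  obtain ⟨u, hu, hu1⟩ := hC.exists_invol_map hβ
  obtain ⟨a, ha, hd, -⟩ := hC.exists_lift hu hu1 hβ hC.z_mem_cz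
  obtain ⟨x, hx, hxa⟩ := hC.exists_sqrt ha
  refine ⟨x, hx, ?_⟩
  have h := (mem_pairStab.1 hd).2
  have e : z * x = x * (z * a) := by
    rw [← hxa]
    have h1 := hC.conj_z hx
    have hz := mul_self_of_two hC.two
    calc z * x = z * x * (z * z) := by rw [hz, mul_one]
      _ = (z * x * z) * z := by group
      _ = x⁻¹ * z := by rw [h1]
      _ = x * (z * x * z) * (z * x * z) * z := by rw [h1]; group
      _ = x * (z * (x * (z * z) * x)) * (z * z) := by group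
      _ = _ := by rw [hz]; group
  rw [← mul_smul, e, mul_smul, h]

theorem translate_unique {β : Ω} (hβ : β ≠ α) (h1 : z • β = β) {x : G} (hx : x ∈ M)
    (h2 : z • x • β = x • β) : x = 1 := by
  refine hC.eq_one_of_two hx (hC.semiregular (M.mul_mem hx hx) hβ ?_)
  have h3 : x⁻¹ • β = x • β := by rw [← hC.conj_z hx, mul_smul, mul_smul, h1, h2]
  rw [mul_smul, ← h3, smul_inv_smul]

/-- Every point outside `α` is uniquely a translate of a fixed point of `z` outside `α`. -/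
theorem card_points : Nat.card Ω = 1 + Nat.card M * Nat.card {γ : Ω // γ ≠ α ∧ z • γ = γ} := by
  classical
  have e : Nat.card ({γ : Ω // γ = α} ⊕ {γ : Ω // ¬ γ = α}) = Nat.card Ω :=
    Nat.card_congr (Equiv.sumCompl fun γ : Ω => γ = α)
  rw [← e, Nat.card_sum, Nat.card_unique, ← Nat.card_prod]
  congr 1
  refine (Nat.card_eq_of_bijective
    (fun p : M × {γ : Ω // γ ≠ α ∧ z • γ = γ} =>
      (⟨(p.1 : G) • p.2.1, hC.smul_ne p.1.2 p.2.2.1⟩ : {γ : Ω // ¬ γ = α})) ⟨?_, ?_⟩).symm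
  · rintro ⟨x, γ⟩ ⟨y, δ⟩ h
    have h' : (x : G) • γ.1 = (y : G) • δ.1 := congrArg Subtype.val h
    have h1 : ((y : G)⁻¹ * x) • γ.1 = δ.1 := by rw [mul_smul, h', inv_smul_smul]
    have h2 := hC.translate_unique γ.2.1 γ.2.2 (M.mul_mem (M.inv_mem y.2) x.2) (by rw [h1, δ.2.2])
    have hxy : x = y := Subtype.ext (inv_mul_eq_one.1 h2).symm
    subst hxy
    exact Prod.ext rfl (Subtype.ext (smul_left_cancel _ h'))
  · rintro ⟨γ, hγ⟩
    obtain ⟨x, hx, hxf⟩ := hC.exists_fixed_translate hγ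
    exact ⟨⟨⟨x⁻¹, M.inv_mem hx⟩, ⟨x • γ, hC.smul_ne hx hγ, hxf⟩⟩, Subtype.ext (inv_smul_smul x γ)⟩

/-- With three fixed points of `z` the centraliser part has order two. -/
theorem cz_two {β γ : Ω} (hβ : β ≠ α) (hγ : γ ≠ α) (hβγ : β ≠ γ) (hzβ : z • β = β) (hzγ : z • γ = γ) :
    ∀ c ∈ cz M z, c = 1 ∨ c = z := by
  intro c hc
  have hcβ : c ∈ pairStab G α β := hC.cz_eq hβ hzβ ▸ hc
  have hcγ : c ∈ pairStab G α γ := hC.cz_eq hγ hzγ ▸ hc
  have hzβ' : z ∈ pairStab G α β := mem_pairStab.2 ⟨hC.z_fix, hzβ⟩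
  have hzγ' : z ∈ pairStab G α γ := mem_pairStab.2 ⟨hC.z_fix, hzγ⟩
  obtain ⟨g, hg, g1, g2⟩ := hC.exists_swap hβ.symm
  obtain ⟨g', hg', g1', g2'⟩ := hC.exists_swap hγ.symm
  have hgz : g * z * g⁻¹ = z := by rw [hC.swap_inverts hβ.symm g1 g2 hzβ', inv_of_two hC.two]
  have hgz' : g' * z * g'⁻¹ = z := by rw [hC.swap_inverts hγ.symm g1' g2' hzγ', inv_of_two hC.two]
  set δ := g • γ with hδ
  have hδα : δ ≠ α := fun e => hβγ (by rw [hδ, ← g2] at e; exact (smul_left_cancel _ e).symm)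
  have hzδ : z • δ = δ := by
    rw [hδ, ← mul_smul, ← mul_inv_eq_iff_eq_mul.1 hgz, mul_smul, hzγ]
  obtain ⟨v, hv, v1, v2⟩ := hC.exists_swap hδα.symm
  have hzδ' : z ∈ pairStab G α δ := mem_pairStab.2 ⟨hC.z_fix, hzδ⟩
  have hvz : v * z * v⁻¹ = z := by rw [hC.swap_inverts hδα.symm v1 v2 hzδ', inv_of_two hC.two]
  have hn : v * (g * g') ∈ cz M z := by
    refine hC.mem_cz.2 ⟨hC.mem_N.2 ?_, ?_⟩
    · rw [mul_smul, mul_smul, g1', ← hδ, v2]
    · rw [mul_assoc v, mul_assoc g, mul_inv_eq_iff_eq_mul.1 hgz', ← mul_assoc g,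
        mul_inv_eq_iff_eq_mul.1 hgz, mul_assoc z g, ← mul_assoc v z, mul_inv_eq_iff_eq_mul.1 hvz, mul_assoc]
  have hcδ : c ∈ pairStab G α δ := hC.cz_eq hδα hzδ ▸ hc
  have e1 : (g * g') * c * (g * g')⁻¹ = c := by
    rw [show (g * g') * c * (g * g')⁻¹ = g * (g' * c * g'⁻¹) * g⁻¹ by group,
      hC.swap_inverts hγ.symm g1' g2' hcγ, hC.swap_inverts hβ.symm g1 g2 ((pairStab G α β).inv_mem hcβ), inv_inv]
  have e2 : c * (v * (g * g')) = v * (g * g') * c := by
    have hm : v * (g * g') ∈ pairStab G α β := hC.cz_eq hβ hzβ ▸ hn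
    exact hC.pairStab_comm hβ.symm hcβ hm
  have e3 : v * c * v⁻¹ = c := by
    nth_rewrite 1 [← e1]
    rw [show v * (g * g' * c * (g * g')⁻¹) * v⁻¹ = (v * (g * g') * c) * (v * (g * g'))⁻¹ by group, ← e2,
      mul_inv_cancel_right]
  rw [hC.swap_inverts hδα.symm v1 v2 hcδ] at e3
  rcases eq_or_ne c 1 with h | h
  · exact Or.inl h
  · right
    have hc2 : orderOf c = 2 := two_of_mul_self (by nth_rewrite 1 [← e3]; exact inv_mul_cancel c) h
    exact hC.eq_of_pair hβ.symm hc2 hcβ hC.two hzβ'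

end Cfg

end Cfsg.Lib.TICount
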